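import Mathlib
import Cfsg.Prelude.Def_Local
import Cfsg.Prelude.Def_Transfer
import Cfsg.Agent.Lib.CharP.AxB
import Cfsg.Agent.Lib.Classification.TI

/-!
Trivial intersection elementary abelian 2-subgroups with a conjugate in the 2-radical of the normalizer:
the structure of `C_Q(V)` and the covering of `⟨V, X⟩` by conjugates.
-/

set_option autoImplicit false

namespace Cfsg.Agent.TIRad

open scoped commutatorElement

variable {G : Type*} [Group G]

/-- Conjugate subgroup. -/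
abbrev cj (x : G) (V : Subgroup G) : Subgroup G := V.map (MulAut.conj x).toMonoidHom

/-- The largest normal 2-subgroup of the normalizer. -/
abbrev QQ (V : Subgroup G) : Subgroup G :=
  (Cfsg.pCore 2 ↥(Subgroup.normalizer (V : Set G))).map (Subgroup.normalizer (V : Set G)).subtype

/-- The centralizer of `V` in the radical. -/
abbrev PP (V : Subgroup G) : Subgroup G := QQ V ⊓ Subgroup.centralizer (V : Set G)

/-- The hypotheses on `V`. -/
structure Hyp (V : Subgroup G) : Prop where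
  ea : Cfsg.IsElementaryAbelian 2 V
  cfc : ∀ z ∈ Subgroup.normalizer (V : Set G), (∀ q ∈ QQ V, z * q = q * z) → z ∈ QQ V
  maxab : ∀ A : Subgroup G, V ≤ A → A ≤ Subgroup.normalizer (V : Set G) → IsMulCommutative ↥A →
    (∀ m ∈ Subgroup.normalizer (V : Set G), ∀ a ∈ A, m * a * m⁻¹ ∈ A) → A = V
  ti : ∀ x : G, cj x V = V ∨ cj x V ⊓ V = ⊥

theorem mem_cj {x y : G} {V : Subgroup G} : y ∈ cj x V ↔ x⁻¹ * y * x ∈ V := by
  constructor
  · rintro ⟨v, hv, rfl⟩
    simpa [MulAut.conj_apply, mul_assoc] using hv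
  · intro h
    exact ⟨_, h, by simp [MulAut.conj_apply, mul_assoc]⟩

theorem cj_cj (x y : G) (V : Subgroup G) : cj x (cj y V) = cj (x * y) V := by
  ext z; simp only [mem_cj, mul_inv_rev, mul_assoc]

theorem cj_one (V : Subgroup G) : cj 1 V = V := by ext z; simp [mem_cj]

theorem cj_mono {x : G} {U W : Subgroup G} (h : U ≤ W) : cj x U ≤ cj x W := Subgroup.map_mono h

theorem card_cj (x : G) (V : Subgroup G) : Nat.card ↥(cj x V) = Nat.card ↥V :=
  Nat.card_congr (Subgroup.equivMapOfInjective _ _ (MulAut.conj x).injective).symm.toEquiv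

theorem cj_normalizer (x : G) (V : Subgroup G) :
    cj x (Subgroup.normalizer (V : Set G)) = Subgroup.normalizer (cj x V : Set G) :=
  Subgroup.map_equiv_normalizer_eq V (MulAut.conj x)

theorem conj_mem {H : Subgroup G} {m a : G} (hm : m ∈ Subgroup.normalizer (H : Set G)) (ha : a ∈ H) :
    m * a * m⁻¹ ∈ H :=
  (Subgroup.mem_normalizer_iff.1 hm a).1 ha

theorem cj_eq_of_mem_normalizer {H : Subgroup G} {m : G} (hm : m ∈ Subgroup.normalizer (H : Set G)) :
    cj m H = H :=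
  Subgroup.mem_normalizer_iff_map_conj_eq.1 hm

theorem mem_normalizer_of_cj_le [Finite G] {H : Subgroup G} {m : G} (h : cj m H ≤ H) :
    m ∈ Subgroup.normalizer (H : Set G) :=
  Subgroup.mem_normalizer_iff_map_conj_eq.2 (Subgroup.eq_of_le_of_card_ge h (card_cj m H).ge)

theorem comm_eq_one_iff {a b : G} : ⁅a, b⁆ = 1 ↔ a * b = b * a := commutatorElement_eq_one_iff_mul_comm

theorem comm_symm {a b : G} (h : a * b = b * a) : ⁅b, a⁆ = 1 := comm_eq_one_iff.2 h.symm

theorem conj_eq_comm_mul (p a : G) : p * a * p⁻¹ = ⁅p, a⁆ * a := by simp [commutatorElement_def, mul_assoc]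

variable {V X : Subgroup G}

namespace Hyp

theorem sq (h : Hyp V) {a : G} (ha : a ∈ V) : a * a = 1 := by
  have := h.ea.2 a ha; rwa [pow_two] at this

theorem inv_eq (h : Hyp V) {a : G} (ha : a ∈ V) : a⁻¹ = a := inv_eq_of_mul_eq_one_right (h.sq ha)

theorem comm (h : Hyp V) {a b : G} (ha : a ∈ V) (hb : b ∈ V) : a * b = b * a :=
  haveI := h.ea.1; setLike_mul_comm ha hb

theorem isPGroup (h : Hyp V) : IsPGroup 2 ↥V := fun g => ⟨1, by
  rw [pow_one]; exact Subtype.ext (by simpa using h.ea.2 g g.2)⟩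

end Hyp

theorem QQ_le (V : Subgroup G) : QQ V ≤ Subgroup.normalizer (V : Set G) := by
  rintro _ ⟨y, -, rfl⟩; exact y.2

theorem QQ_isPGroup [Finite G] (V : Subgroup G) : IsPGroup 2 ↥(QQ V) := AxB.isPGroup_pCoreOf 2 _

theorem QQ_normal {m a : G} (hm : m ∈ Subgroup.normalizer (V : Set G)) (ha : a ∈ QQ V) :
    m * a * m⁻¹ ∈ QQ V := by
  obtain ⟨y, hy, rfl⟩ := ha
  refine ⟨⟨m, hm⟩ * y * ⟨m, hm⟩⁻¹, ?_, rfl⟩
  exact (AxBNormal.pCore_normal (p := 2)).conj_mem y hy _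
where
  AxBNormal.pCore_normal {p : ℕ} {H : Type _} [Group H] : (Cfsg.pCore p H).Normal :=
    Subgroup.sSup_normal _ fun _ h => h.1

theorem le_QQ {N : Subgroup G} (hle : N ≤ Subgroup.normalizer (V : Set G))
    (hn : ∀ m ∈ Subgroup.normalizer (V : Set G), ∀ a ∈ N, m * a * m⁻¹ ∈ N) (hp : IsPGroup 2 N) :
    N ≤ QQ V := by
  refine AxB.le_pCoreOf hle (fun m hm => ?_) hp
  rw [Subgroup.mem_normalizer_iff]
  refine fun a => ⟨hn m hm a, fun ha => ?_⟩
  have := hn m⁻¹ (inv_mem hm) _ ha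
  simpa [mul_assoc] using this

theorem le_QQ_self (h : Hyp V) : V ≤ QQ V :=
  le_QQ Subgroup.le_normalizer (fun _ hm _ ha => conj_mem hm ha) h.isPGroup

theorem cj_QQ_le [Finite G] (x : G) (V : Subgroup G) : cj x (QQ V) ≤ QQ (cj x V) := by
  refine le_QQ ?_ ?_ ((QQ_isPGroup V).map _)
  · rw [← cj_normalizer]; exact cj_mono (QQ_le V)
  · intro m hm a ha
    rw [← cj_normalizer, mem_cj] at hm
    rw [mem_cj] at ha ⊢
    have := QQ_normal hm ha
    simpa [mul_assoc] using this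

theorem cj_QQ [Finite G] (x : G) (V : Subgroup G) : cj x (QQ V) = QQ (cj x V) := by
  refine le_antisymm (cj_QQ_le x V) fun a ha => ?_
  rw [mem_cj]
  have h1 := cj_QQ_le x⁻¹ (cj x V) (mem_cj.2 (show (x⁻¹)⁻¹ * (x⁻¹ * a * x) * x⁻¹ ∈ QQ (cj x V) by simpa [mul_assoc] using ha))
  rwa [cj_cj, inv_mul_cancel, cj_one] at h1

theorem cj_centralizer (x : G) (V : Subgroup G) :
    cj x (Subgroup.centralizer (V : Set G)) = Subgroup.centralizer (cj x V : Set G) := by
  ext z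
  simp only [mem_cj, Subgroup.mem_centralizer_iff, SetLike.mem_coe]
  constructor
  · intro h y hy
    have e := h _ hy
    have := congrArg (fun w => x * w * x⁻¹) e
    simpa [mul_assoc] using this
  · intro h y hy
    have e := h (x * y * x⁻¹) (by simpa [mul_assoc] using hy)
    have := congrArg (fun w => x⁻¹ * w * x) e
    simpa [mul_assoc] using this

theorem cj_PP [Finite G] (x : G) (V : Subgroup G) : cj x (PP V) = PP (cj x V) := by
  rw [cj, PP, Subgroup.map_inf _ _ _ (MulAut.conj x).injective]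
  exact congrArg₂ (· ⊓ ·) (cj_QQ x V) (cj_centralizer x V)

theorem Hyp.cj [Finite G] (h : Hyp V) (x : G) : Hyp (cj x V) := by
  refine ⟨⟨⟨⟨fun a b => ?_⟩⟩, fun a ha => ?_⟩, ?_, ?_, ?_⟩
  · obtain ⟨a', ha', ea⟩ := a.2
    obtain ⟨b', hb', eb⟩ := b.2
    refine Subtype.ext ?_
    rw [Subgroup.coe_mul, Subgroup.coe_mul, ← ea, ← eb, ← map_mul, ← map_mul, h.comm ha' hb']
  · obtain ⟨a', ha', rfl⟩ := ha
    rw [← map_pow, h.ea.2 a' ha', map_one]
  · intro z hz hc
    rw [← cj_normalizer, mem_cj] at hz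
    rw [← cj_QQ, mem_cj]
    refine h.cfc _ hz fun q hq => ?_
    have e := hc (x * q * x⁻¹) (by rw [← cj_QQ, mem_cj]; simpa [mul_assoc] using hq)
    have := congrArg (fun w => x⁻¹ * w * x) e
    simpa [mul_assoc] using this
  · intro A hVA hAN hA hn
    have key : TIRad.cj x⁻¹ A = V := by
      refine h.maxab _ ?_ ?_ ?_ ?_
      · intro v hv
        rw [mem_cj, inv_inv]
        exact hVA (mem_cj.2 (by simpa [mul_assoc] using hv))
      · intro a ha
        have := hAN (mem_cj.1 ha)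
        rw [← cj_normalizer, mem_cj] at this
        simpa [mul_assoc] using this
      · refine ⟨⟨fun a b => Subtype.ext ?_⟩⟩
        haveI := hA
        have e := setLike_mul_comm (mem_cj.1 a.2) (mem_cj.1 b.2)
        have := congrArg (fun w => x⁻¹ * w * x) e
        simpa [mul_assoc] using this
      · intro m hm a ha
        have := hn (x * m * x⁻¹) (by rw [← cj_normalizer, mem_cj]; simpa [mul_assoc] using hm) _ (mem_cj.1 ha)
        rw [mem_cj]
        simpa [mul_assoc] using this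
    rw [← key, cj_cj, mul_inv_cancel, cj_one]
  · intro y
    rcases h.ti (x⁻¹ * y * x) with e | e
    · left
      rw [cj_cj]
      calc TIRad.cj (y * x) V = TIRad.cj x (TIRad.cj (x⁻¹ * y * x) V) := by
            rw [cj_cj]; simp [mul_assoc]
        _ = TIRad.cj x V := by rw [e]
    · right
      rw [cj_cj, show y * x = x * (x⁻¹ * y * x) by simp [mul_assoc], ← cj_cj]
      simp only [TIRad.cj] at e ⊢
      rw [← Subgroup.map_inf _ _ _ (MulAut.conj x).injective, e, Subgroup.map_bot]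

/-- A conjugate of `V` other than `V` inside the radical. -/
structure Pair (V X : Subgroup G) : Prop where
  hyp : Hyp V
  conj : ∃ x : G, X = cj x V
  ne : X ≠ V
  le : X ≤ QQ V

namespace Pair

variable [Finite G] (h : Pair V X)
include h

theorem hypX : Hyp X := by obtain ⟨x, rfl⟩ := h.conj; exact h.hyp.cj x

theorem card : Nat.card ↥X = Nat.card ↥V := by obtain ⟨x, rfl⟩ := h.conj; exact card_cj x V

theorem inf_eq : V ⊓ X = ⊥ := by
  obtain ⟨x, rfl⟩ := h.conj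
  rw [inf_comm]
  exact (h.hyp.ti x).resolve_left h.ne

theorem eq_one {a : G} (ha : a ∈ V) (ha' : a ∈ X) : a = 1 :=
  Subgroup.mem_bot.1 (h.inf_eq ▸ Subgroup.mem_inf.2 ⟨ha, ha'⟩)

theorem nontriv : ∃ a ∈ X, a ≠ 1 := by
  by_contra hc
  push Not at hc
  have hX : X = ⊥ := (Subgroup.eq_bot_iff_forall X).2 hc
  have hV : V = ⊥ := Subgroup.eq_bot_of_card_eq V (by rw [← h.card, hX, Subgroup.card_bot])
  exact h.ne (hX.trans hV.symm)

theorem comm_V {v a : G} (hv : v ∈ V) (ha : a ∈ X) : v * a = a * v := by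
  have hb := TI.comm_eq_bot_of_ti (p := 2) h.hyp.isPGroup h.hypX.isPGroup
    (fun a _ => h.hypX.ti a) h.card.ge h.inf_eq (h.le.trans (QQ_le V))
  have : ⁅v, a⁆ ∈ (⊥ : Subgroup G) := hb ▸ Subgroup.commutator_mem_commutator hv ha
  exact comm_eq_one_iff.1 (Subgroup.mem_bot.1 this)

theorem le_PP : X ≤ PP V :=
  le_inf h.le fun _ ha => Subgroup.mem_centralizer_iff.2 fun _ hv => h.comm_V hv ha

theorem V_le_normalizer : V ≤ Subgroup.normalizer (X : Set G) := fun v hv => by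
  rw [Subgroup.mem_normalizer_iff]
  intro a
  constructor
  · intro ha; rw [h.comm_V hv ha, mul_inv_cancel_right]; exact ha
  · intro ha
    have e := h.comm_V hv ha
    have : a = v * a * v⁻¹ := by
      have := congrArg (fun w => v⁻¹ * w) e
      simp only [mul_assoc, inv_mul_cancel_left, inv_mul_cancel, mul_one] at this
      simp only [mul_assoc]
      rw [this]
    rwa [this]

end Pair

/-! ### The structure of `C_Q(V)` -/

section PP

theorem mem_PP {p : G} : p ∈ PP V ↔ p ∈ QQ V ∧ ∀ v ∈ V, p * v = v * p := by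
  simp only [Subgroup.mem_inf, Subgroup.mem_centralizer_iff, SetLike.mem_coe]
  exact and_congr_right fun _ => ⟨fun h v hv => (h v hv).symm, fun h v hv => (h v hv).symm⟩

theorem PP_normal {m p : G} (hm : m ∈ Subgroup.normalizer (V : Set G)) (hp : p ∈ PP V) :
    m * p * m⁻¹ ∈ PP V := by
  rw [mem_PP] at hp ⊢
  refine ⟨QQ_normal hm hp.1, fun v hv => ?_⟩
  have := hp.2 (m⁻¹ * v * m) (by simpa using conj_mem (inv_mem hm) hv)
  have := congrArg (fun w => m * w * m⁻¹) this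
  simpa [mul_assoc] using this

theorem PP_le_normalizer (V : Subgroup G) : PP V ≤ Subgroup.normalizer (V : Set G) :=
  inf_le_left.trans (QQ_le V)

theorem V_le_PP (h : Hyp V) : V ≤ PP V := fun _ hv =>
  mem_PP.2 ⟨le_QQ_self h hv, fun _ hw => h.comm hv hw⟩

variable [Finite G]

/-- The centre of `C_Q(V)` is `V`. -/
theorem mem_of_centralizes (h : Hyp V) {z : G} (hz : z ∈ PP V) (hc : ∀ p ∈ PP V, z * p = p * z) : z ∈ V := by
  let A : Subgroup G :=
    { carrier := {z | z ∈ PP V ∧ ∀ p ∈ PP V, z * p = p * z}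
      one_mem' := ⟨one_mem _, fun p _ => by simp⟩
      mul_mem' := fun {a b} ha hb => ⟨mul_mem ha.1 hb.1, fun p hp => by
        rw [mul_assoc, hb.2 p hp, ← mul_assoc, ha.2 p hp, mul_assoc]⟩
      inv_mem' := fun {a} ha => ⟨inv_mem ha.1, fun p hp => (Commute.inv_left (ha.2 p hp)).eq⟩ }
  have hA : A = V := by
    refine h.maxab A (fun v hv => ⟨V_le_PP h hv, fun p hp => ((mem_PP.1 hp).2 v hv).symm⟩)
      (fun a ha => PP_le_normalizer V ha.1) ⟨⟨fun a b => Subtype.ext (a.2.2 b b.2.1)⟩⟩ fun m hm a ha => ?_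
    refine ⟨PP_normal hm ha.1, fun p hp => ?_⟩
    have := ha.2 (m⁻¹ * p * m) (by simpa using PP_normal (inv_mem hm) hp)
    have := congrArg (fun w => m * w * m⁻¹) this
    simpa [mul_assoc] using this
  exact hA ▸ (⟨hz, hc⟩ : z ∈ A)

theorem PP_isPGroup (V : Subgroup G) : IsPGroup 2 ↥(PP V) := (QQ_isPGroup V).to_le inf_le_left

/-- A non-trivial normal subgroup of a finite 2-group meets the centre. -/
theorem normal_meets_center {H : Type*} [Group H] [Finite H] {N : Subgroup H} [hNn : N.Normal]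
    (hH : IsPGroup 2 H) (hN : N ≠ ⊥) : N ⊓ Subgroup.center H ≠ ⊥ := by
  haveI : Group.IsNilpotent H := hH.isNilpotent
  obtain ⟨n, hn⟩ := Group.IsNilpotent.nilpotent' (G := H)
  intro hbot
  apply hN
  have : ∀ i, N ⊓ Subgroup.upperCentralSeries H i = ⊥ := by
    intro i
    induction i with
    | zero => simp
    | succ i ih =>
      rw [eq_bot_iff]
      intro x hx
      obtain ⟨hxN, hxU⟩ := Subgroup.mem_inf.1 hx
      have hxc : x ∈ Subgroup.center H := by
        rw [Subgroup.mem_center_iff]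
        intro y
        have h1 : x * y * x⁻¹ * y⁻¹ ∈ N ⊓ Subgroup.upperCentralSeries H i :=
          Subgroup.mem_inf.2 ⟨by
            have := mul_mem hxN (hNn.conj_mem x⁻¹ (inv_mem hxN) y)
            simpa [mul_assoc] using this,
            (Subgroup.mem_upperCentralSeries_succ_iff.1 hxU) y⟩
        rw [ih, Subgroup.mem_bot] at h1
        have h1' : ⁅x, y⁆ = 1 := h1
        exact (comm_eq_one_iff.1 h1').symm
      exact hbot ▸ Subgroup.mem_inf.2 ⟨hxN, hxc⟩
  have := this n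
  rwa [hn, inf_top_eq] at this

/-- `C_Q(V) / V` is elementary abelian. -/
theorem comm_mem_and_sq_mem (h : Hyp V) :
    (∀ p ∈ PP V, ∀ q ∈ PP V, ⁅p, q⁆ ∈ V) ∧ ∀ p ∈ PP V, p * p ∈ V := by
  -- the preimage of the centre of `PP V / V`
  set Y : Set G := {y | y ∈ PP V ∧ ∀ p ∈ PP V, ⁅p, y⁆ ∈ V} with hY
  have hYmul : ∀ a ∈ Y, ∀ b ∈ Y, a * b ∈ Y := by
    intro a ha b hb
    refine ⟨mul_mem ha.1 hb.1, fun p hp => ?_⟩
    have e : ⁅p, a * b⁆ = ⁅p, a⁆ * (a * ⁅p, b⁆ * a⁻¹) := by simp [commutatorElement_def, mul_assoc]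
    rw [e]
    exact mul_mem (ha.2 p hp) (conj_mem (PP_le_normalizer V ha.1) (hb.2 p hp))
  have hYinv : ∀ a ∈ Y, a⁻¹ ∈ Y := by
    intro a ha
    refine ⟨inv_mem ha.1, fun p hp => ?_⟩
    have e : ⁅p, a⁻¹⁆ = a⁻¹ * ⁅p, a⁆⁻¹ * a⁻¹⁻¹ := by simp [commutatorElement_def, mul_assoc]
    rw [e]
    exact conj_mem (inv_mem (PP_le_normalizer V ha.1)) (inv_mem (ha.2 p hp))
  let Ys : Subgroup G :=
    { carrier := Y
      one_mem' := ⟨one_mem _, fun p _ => by simp [commutatorElement_def]⟩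
      mul_mem' := fun ha hb => hYmul _ ha _ hb
      inv_mem' := fun ha => hYinv _ ha }
  have hVY : V ≤ Ys := fun v hv => ⟨V_le_PP h hv, fun p hp => by
    rw [comm_eq_one_iff.2 ((mem_PP.1 hp).2 v hv)]; exact one_mem _⟩
  have hYn : ∀ m ∈ Subgroup.normalizer (V : Set G), ∀ a ∈ Ys, m * a * m⁻¹ ∈ Ys := by
    intro m hm a ha
    refine ⟨PP_normal hm ha.1, fun p hp => ?_⟩
    have := conj_mem hm (ha.2 (m⁻¹ * p * m) (by simpa using PP_normal (inv_mem hm) hp))
    have e : m * ⁅m⁻¹ * p * m, a⁆ * m⁻¹ = ⁅p, m * a * m⁻¹⁆ := by simp [commutatorElement_def, mul_assoc]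
    rwa [e] at this
  -- its centre is `V`
  have hcentre : ∀ z ∈ Ys, (∀ y ∈ Ys, z * y = y * z) → z ∈ V := by
    intro z hz hc
    let A : Subgroup G :=
      { carrier := {z | z ∈ Ys ∧ ∀ y ∈ Ys, z * y = y * z}
        one_mem' := ⟨one_mem _, fun p _ => by simp⟩
        mul_mem' := fun {a b} ha hb => ⟨mul_mem ha.1 hb.1, fun p hp => by
          rw [mul_assoc, hb.2 p hp, ← mul_assoc, ha.2 p hp, mul_assoc]⟩
        inv_mem' := fun {a} ha => ⟨inv_mem ha.1, fun p hp => (Commute.inv_left (ha.2 p hp)).eq⟩ }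
    have hA : A = V := by
      refine h.maxab A (fun v hv => ⟨hVY hv, fun y hy => ((mem_PP.1 hy.1).2 v hv).symm⟩)
        (fun a ha => PP_le_normalizer V ha.1.1) ⟨⟨fun a b => Subtype.ext (a.2.2 b b.2.1)⟩⟩ fun m hm a ha => ?_
      refine ⟨hYn m hm a ha.1, fun p hp => ?_⟩
      have := ha.2 (m⁻¹ * p * m) (by simpa using hYn _ (inv_mem hm) p hp)
      have := congrArg (fun w => m * w * m⁻¹) this
      simpa [mul_assoc] using this
    exact hA ▸ (⟨hz, hc⟩ : z ∈ A)
  -- elements of `PP V` centralizing `Ys` are in `V`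
  let C : Subgroup G := PP V ⊓ Subgroup.centralizer (Ys : Set G)
  have hC : ∀ c ∈ C, c ∈ V := by
    by_contra hcon
    push Not at hcon
    obtain ⟨c, hc, hcV⟩ := hcon
    -- the image of `C` in `PP V / V` meets the centre
    let Vp : Subgroup ↥(PP V) := V.subgroupOf (PP V)
    haveI : Vp.Normal := (Subgroup.normal_subgroupOf_iff_le_normalizer (V_le_PP h)).2 (PP_le_normalizer V)
    let Cq : Subgroup (↥(PP V) ⧸ Vp) := (C.subgroupOf (PP V)).map (QuotientGroup.mk' Vp)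
    haveI : Cq.Normal := by
      refine Subgroup.Normal.map ⟨fun a ha p => ?_⟩ _ (QuotientGroup.mk'_surjective _)
      rw [Subgroup.mem_subgroupOf] at ha ⊢
      refine Subgroup.mem_inf.2 ⟨((p * a * p⁻¹ : ↥(PP V))).2, Subgroup.mem_centralizer_iff.2 fun y hy => ?_⟩
      have := Subgroup.mem_centralizer_iff.1 ha.2 ((p : G)⁻¹ * y * p)
        (by simpa using hYn _ (inv_mem (PP_le_normalizer V p.2)) y hy)
      have := congrArg (fun w => (p : G) * w * (p : G)⁻¹) this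
      simpa [mul_assoc] using this
    have hne : Cq ≠ ⊥ := by
      intro e
      apply hcV
      have : QuotientGroup.mk' Vp ⟨c, hc.1⟩ ∈ Cq := ⟨⟨c, hc.1⟩, hc, rfl⟩
      rw [e, Subgroup.mem_bot, QuotientGroup.mk'_apply, QuotientGroup.eq_one_iff] at this
      exact this
    have hq : IsPGroup 2 (↥(PP V) ⧸ Vp) := (PP_isPGroup V).to_quotient Vp
    obtain ⟨⟨z, hz⟩, hz1'⟩ := Subgroup.ne_bot_iff_exists_ne_one.1 (normal_meets_center hq hne)
    have hz1 : z ≠ 1 := fun e => hz1' (Subtype.ext e)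
    obtain ⟨⟨d, hdC, rfl⟩, hdc⟩ := Subgroup.mem_inf.1 hz
    apply hz1
    rw [QuotientGroup.mk'_apply, QuotientGroup.eq_one_iff]
    refine hcentre d ⟨hdC.1, fun p hp => ?_⟩ fun y hy => (Subgroup.mem_centralizer_iff.1 hdC.2 y hy).symm
    have := Subgroup.mem_center_iff.1 hdc (QuotientGroup.mk' Vp ⟨p, hp⟩)
    rw [← map_mul, ← map_mul, QuotientGroup.mk'_apply, QuotientGroup.mk'_apply, QuotientGroup.eq,
      Subgroup.mem_subgroupOf] at this
    -- `(p d)⁻¹ (d p) ∈ V`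
    have e : ⁅p, (d : G)⁆ = (d * p) * (((p * d)⁻¹ * (d * p) : G))⁻¹ * (d * p)⁻¹ := by
      simp [commutatorElement_def, mul_assoc]
    rw [e]
    exact conj_mem (PP_le_normalizer V (mul_mem hdC.1 hp)) (inv_mem (by simpa using this))
  have key : ∀ c ∈ PP V, (∀ y ∈ Ys, c * y = y * c) → c ∈ V := fun c hc hy =>
    hC c ⟨hc, Subgroup.mem_centralizer_iff.2 fun y hy' => (hy y hy').symm⟩
  -- commutation with `y ∈ Ys` is a homomorphism into `V`
  have hhom : ∀ p ∈ PP V, ∀ q ∈ PP V, ∀ y ∈ Ys, ⁅p * q, y⁆ = ⁅p, y⁆ * ⁅q, y⁆ := by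
    intro p hp q hq y hy
    have hqy := hy.2 q hq
    have e : ⁅p * q, y⁆ = (p * ⁅q, y⁆ * p⁻¹) * ⁅p, y⁆ := by simp [commutatorElement_def, mul_assoc]
    rw [e, (mem_PP.1 hp).2 _ hqy, mul_inv_cancel_right, h.comm (hy.2 q hq) (hy.2 p hp)]
  constructor
  · intro p hp q hq
    refine key _ (mul_mem (mul_mem (mul_mem hp hq) (inv_mem hp)) (inv_mem hq)) fun y hy => ?_
    calc ⁅p, q⁆ * y = ((p * q) * ((q * p)⁻¹ * y * (q * p)) * (p * q)⁻¹) * ⁅p, q⁆ := by
          simp [commutatorElement_def, mul_assoc]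
      _ = ((q * p) * ((q * p)⁻¹ * y * (q * p)) * (q * p)⁻¹) * ⁅p, q⁆ := by
          have hy' : (q * p)⁻¹ * y * (q * p) ∈ Ys := by
            simpa using hYn _ (inv_mem (PP_le_normalizer V (mul_mem hq hp))) y hy
          have h1' : ⁅p * q, (q * p)⁻¹ * y * (q * p)⁆ = ⁅q * p, (q * p)⁻¹ * y * (q * p)⁆ := by
            rw [hhom p hp q hq _ hy', hhom q hq p hp _ hy', h.comm (hy'.2 p hp) (hy'.2 q hq)]
          rw [conj_eq_comm_mul, conj_eq_comm_mul, h1']
      _ = y * ⁅p, q⁆ := by simp [mul_assoc]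
  · intro p hp
    refine key _ (mul_mem hp hp) fun y hy => comm_eq_one_iff.1 ?_
    rw [hhom p hp p hp y hy, h.sq (hy.2 p hp)]

theorem comm_mem (h : Hyp V) {p q : G} (hp : p ∈ PP V) (hq : q ∈ PP V) : ⁅p, q⁆ ∈ V :=
  (comm_mem_and_sq_mem h).1 p hp q hq

theorem sq_mem (h : Hyp V) {p : G} (hp : p ∈ PP V) : p * p ∈ V := (comm_mem_and_sq_mem h).2 p hp

theorem comm_mul_left (h : Hyp V) {p q r : G} (hp : p ∈ PP V) (hq : q ∈ PP V) (hr : r ∈ PP V) :
    ⁅p * q, r⁆ = ⁅p, r⁆ * ⁅q, r⁆ := by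
  have hqr := comm_mem h hq hr
  have e : ⁅p * q, r⁆ = (p * ⁅q, r⁆ * p⁻¹) * ⁅p, r⁆ := by simp [commutatorElement_def, mul_assoc]
  rw [e, (mem_PP.1 hp).2 _ hqr, mul_inv_cancel_right, h.comm (comm_mem h hq hr) (comm_mem h hp hr)]

theorem comm_comm_eq (h : Hyp V) {p q : G} (hp : p ∈ PP V) (hq : q ∈ PP V) : ⁅q, p⁆ = ⁅p, q⁆ := by
  rw [← commutatorElement_inv, h.inv_eq (comm_mem h hp hq)]

theorem comm_mul_right (h : Hyp V) {p q r : G} (hp : p ∈ PP V) (hq : q ∈ PP V) (hr : r ∈ PP V) :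
    ⁅p, q * r⁆ = ⁅p, q⁆ * ⁅p, r⁆ := by
  rw [comm_comm_eq h (mul_mem hq hr) hp, comm_mul_left h hq hr hp, comm_comm_eq h hq hp |>.symm,
    comm_comm_eq h hr hp |>.symm]

end PP

/-! ### The covering -/

namespace Pair

variable [Finite G] (h : Pair V X)
include h

/-- An element of `C_Q(V)` centralising one non-identity element of `X` centralises `X`. -/
theorem fix_all {p a b : G} (hp : p ∈ PP V) (ha : a ∈ X) (ha1 : a ≠ 1) (hc : ⁅p, a⁆ = 1) (hb : b ∈ X) :
    ⁅p, b⁆ = 1 := by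
  have hX := h.hypX
  have hN : cj p X = X := by
    refine (hX.ti p).resolve_right fun e => ha1 (Subgroup.mem_bot.1 (e ▸ Subgroup.mem_inf.2 ⟨?_, ha⟩))
    refine ⟨a, ha, ?_⟩
    show p * a * p⁻¹ = a
    rw [comm_eq_one_iff.1 hc, mul_inv_cancel_right]
  refine h.eq_one (comm_mem h.hyp hp (h.le_PP hb)) ?_
  have e : ⁅p, b⁆ = (p * b * p⁻¹) * b⁻¹ := by simp [commutatorElement_def]
  rw [e]
  exact mul_mem (hN ▸ ⟨b, hb, rfl⟩) (inv_mem hb)

/-- There is a conjugate of `X` in `C_Q(V)` not commuting with `X`. -/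
theorem exists_opposite : ∃ m ∈ Subgroup.normalizer (V : Set G),
    cj m X ≤ PP V ∧ ∃ a ∈ X, ∃ b ∈ cj m X, ⁅b, a⁆ ≠ 1 := by
  by_contra hcon
  push Not at hcon
  set Sset : Set G := (V : Set G) ∪ {a | ∃ m ∈ Subgroup.normalizer (V : Set G), a ∈ cj m X} with hSset
  have hmem : ∀ m ∈ Subgroup.normalizer (V : Set G), ∀ a ∈ cj m X, a ∈ PP V := by
    intro m hm a ha
    have := PP_normal hm (h.le_PP (mem_cj.1 ha))
    simpa [mul_assoc] using this
  have hpair : ∀ a ∈ Sset, ∀ b ∈ Sset, a * b = b * a := by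
    intro a ha b hb
    rcases ha with ha | ⟨m, hm, ha⟩
    · rcases hb with hb | ⟨m', hm', hb⟩
      · exact h.hyp.comm ha hb
      · exact ((mem_PP.1 (hmem m' hm' b hb)).2 a ha).symm
    · rcases hb with hb | ⟨m', hm', hb⟩
      · exact (mem_PP.1 (hmem m hm a ha)).2 b hb
      · have h1 := hcon (m⁻¹ * m') (mul_mem (inv_mem hm) hm') (fun x hx => hmem _ (mul_mem (inv_mem hm) hm') x hx)
          _ (mem_cj.1 ha) (m⁻¹ * b * m) (by
            rw [mem_cj]
            have := mem_cj.1 hb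
            simpa [mul_assoc] using this)
        have e := comm_eq_one_iff.1 h1
        have := congrArg (fun w => m * w * m⁻¹) e
        simpa [mul_assoc] using this.symm
  have hA := h.hyp.maxab (Subgroup.closure Sset)
    (fun v hv => Subgroup.subset_closure (Or.inl hv))
    ((Subgroup.closure_le _).2 fun a ha => by
      rcases ha with ha | ⟨m, hm, ha⟩
      · exact Subgroup.le_normalizer ha
      · exact PP_le_normalizer V (hmem m hm a ha))
    (Subgroup.isMulCommutative_closure hpair)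
    (fun m hm a ha => by
      induction ha using Subgroup.closure_induction with
      | mem a ha =>
        refine Subgroup.subset_closure ?_
        rcases ha with ha | ⟨m', hm', ha⟩
        · exact Or.inl (conj_mem hm ha)
        · refine Or.inr ⟨m * m', mul_mem hm hm', ?_⟩
          rw [← cj_cj]; exact ⟨a, ha, rfl⟩
      | one => simp
      | mul a b _ _ h1 h2 =>
        have := mul_mem h1 h2
        simpa [mul_assoc] using this
      | inv a _ h1 =>
        have := inv_mem h1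
        simpa [mul_assoc] using this)
  obtain ⟨a, ha, ha1⟩ := h.nontriv
  refine ha1 (h.eq_one (hA ▸ Subgroup.subset_closure (Or.inr ⟨1, one_mem _, ?_⟩)) ha)
  rw [cj_one]; exact ha

/-- Commutation with `a ∈ X#` maps `C_Q(V)` onto `V`. -/
theorem cover {a : G} (ha : a ∈ X) (ha1 : a ≠ 1) {u : G} (hu : u ∈ V) : ∃ p ∈ PP V, ⁅p, a⁆ = u := by
  obtain ⟨m, hm, hle, a₀, ha₀, b₀, hb₀, hne⟩ := h.exists_opposite
  have hY : Pair V (cj m X) := by
    refine ⟨h.hyp, ?_, fun e => h.ne ?_, hle.trans inf_le_left⟩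
    · obtain ⟨x, rfl⟩ := h.conj; exact ⟨m * x, cj_cj m x V⟩
    · have := congrArg (cj m⁻¹) e
      rwa [cj_cj, inv_mul_cancel, cj_one, cj_eq_of_mem_normalizer (inv_mem hm)] at this
  have h1 : ⁅b₀, a⁆ ≠ 1 := fun e => hne (h.fix_all (hle hb₀) ha ha1 e ha₀)
  have hinj : ∀ b ∈ cj m X, ⁅b, a⁆ = 1 → b = 1 := by
    intro b hb e
    by_contra hb1
    refine h1 ?_
    have e' : ⁅a, b⁆ = 1 := comm_symm (comm_eq_one_iff.1 e)
    have := hY.fix_all (h.le_PP ha) hb hb1 e' hb₀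
    exact comm_symm (comm_eq_one_iff.1 this)
  let f : ↥(cj m X) → ↥V := fun b => ⟨⁅(b : G), a⁆, comm_mem h.hyp (hle b.2) (h.le_PP ha)⟩
  have hf : Function.Injective f := by
    intro b c e
    have e' : ⁅(b : G), a⁆ = ⁅(c : G), a⁆ := congrArg Subtype.val e
    have h2 : ⁅(b : G) * c, a⁆ = 1 := by
      rw [comm_mul_left h.hyp (hle b.2) (hle c.2) (h.le_PP ha), e', h.hyp.sq (comm_mem h.hyp (hle c.2) (h.le_PP ha))]
    have h3 := hinj _ (mul_mem b.2 c.2) h2
    refine Subtype.ext ?_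
    have h4 : (c : G) * c = 1 := hY.hypX.sq c.2
    rw [← inv_eq_of_mul_eq_one_left h3, inv_eq_of_mul_eq_one_right h4]
  obtain ⟨b, hb⟩ := (hf.bijective_of_nat_card_le (by rw [hY.card])).2 ⟨u, hu⟩
  exact ⟨b, hle b.2, congrArg Subtype.val hb⟩

theorem mem_sup {w : G} (hw : w ∈ V ⊔ X) : ∃ u ∈ V, ∃ a ∈ X, w = u * a := by
  have hset : w ∈ (↑(V ⊔ X) : Set G) := hw
  rw [Subgroup.coe_mul_of_left_le_normalizer_right V X h.V_le_normalizer] at hset
  obtain ⟨u, hu, a, ha, rfl⟩ := hset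
  exact ⟨u, hu, a, ha, rfl⟩

theorem cj_le_sup {p : G} (hp : p ∈ PP V) : cj p X ≤ V ⊔ X := by
  rintro _ ⟨a, ha, rfl⟩
  show p * a * p⁻¹ ∈ V ⊔ X
  rw [conj_eq_comm_mul]
  exact mul_mem (Subgroup.mem_sup_left (comm_mem h.hyp hp (h.le_PP ha))) (Subgroup.mem_sup_right ha)

/-- `C_Q(V)` normalizes `⟨V, X⟩`. -/
theorem PP_le_normalizer_sup : PP V ≤ Subgroup.normalizer ((V ⊔ X : Subgroup G) : Set G) := by
  intro p hp
  refine mem_normalizer_of_cj_le ?_
  rw [cj, Subgroup.map_sup]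
  refine sup_le ?_ (h.cj_le_sup hp)
  rw [show Subgroup.map (MulAut.conj p).toMonoidHom V = cj p V from rfl,
    cj_eq_of_mem_normalizer (PP_le_normalizer V hp)]
  exact le_sup_left

/-- Every element of `⟨V, X⟩` is in `V` or in a `C_Q(V)`-conjugate of `X`. -/
theorem mem_component {w : G} (hw : w ∈ V ⊔ X) : w ∈ V ∨ ∃ p ∈ PP V, w ∈ cj p X := by
  obtain ⟨u, hu, a, ha, rfl⟩ := h.mem_sup hw
  by_cases ha1 : a = 1
  · left; rw [ha1, mul_one]; exact hu
  · obtain ⟨p, hp, e⟩ := h.cover ha ha1 hu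
    exact Or.inr ⟨p, hp, a, ha, show p * a * p⁻¹ = u * a by rw [conj_eq_comm_mul, e]⟩

theorem of_cj {p : G} (hp : p ∈ PP V) : Pair V (TIRad.cj p X) := by
  refine ⟨h.hyp, ?_, fun e => h.ne ?_, fun a ha => ?_⟩
  · obtain ⟨x, rfl⟩ := h.conj; exact ⟨p * x, cj_cj p x V⟩
  · have := congrArg (TIRad.cj p⁻¹) e
    rwa [cj_cj, inv_mul_cancel, cj_one, cj_eq_of_mem_normalizer (inv_mem (PP_le_normalizer V hp))] at this
  · have := QQ_normal (PP_le_normalizer V hp) (h.le (mem_cj.1 ha))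
    simpa [mul_assoc] using this

/-- A conjugate of `V` meeting `⟨V, X⟩` is one of the components. -/
theorem conj_meets {y w : G} (hwy : w ∈ TIRad.cj y V) (hw : w ∈ V ⊔ X) (hw1 : w ≠ 1) :
    TIRad.cj y V = V ∨ ∃ p ∈ PP V, TIRad.cj y V = TIRad.cj p X := by
  rcases h.mem_component hw with hV | ⟨p, hp, hpw⟩
  · exact Or.inl ((h.hyp.ti y).resolve_right fun e => hw1 (Subgroup.mem_bot.1 (e ▸ Subgroup.mem_inf.2 ⟨hwy, hV⟩)))
  · refine Or.inr ⟨p, hp, ?_⟩
    obtain ⟨x, hx⟩ := h.conj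
    rw [hx, cj_cj] at hpw ⊢
    have e := ((h.hyp.cj (p * x)).ti (y * (p * x)⁻¹)).resolve_right fun e => hw1 (Subgroup.mem_bot.1
      (e ▸ Subgroup.mem_inf.2 ⟨by rw [cj_cj, inv_mul_cancel_right]; exact hwy, hpw⟩))
    rwa [cj_cj, inv_mul_cancel_right] at e

end Pair

/-- Elements of `N(V) ∩ C(V)` acting trivially on `C_Q(V) / V` lie in the radical. -/
theorem mem_QQ_of_trivial [Finite G] (h : Hyp V) {m : G} (hm : m ∈ Subgroup.normalizer (V : Set G))
    (hmc : ∀ v ∈ V, m * v = v * m) (hact : ∀ p ∈ PP V, ⁅m, p⁆ ∈ V) : m ∈ QQ V := by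
  let N : Subgroup G :=
    { carrier := {m | m ∈ Subgroup.normalizer (V : Set G) ∧ (∀ v ∈ V, m * v = v * m) ∧ ∀ p ∈ PP V, ⁅m, p⁆ ∈ V}
      one_mem' := ⟨one_mem _, fun v _ => by simp, fun p _ => by simp [commutatorElement_def]⟩
      mul_mem' := fun {a b} ha hb => ⟨mul_mem ha.1 hb.1, fun v hv => by
          rw [mul_assoc, hb.2.1 v hv, ← mul_assoc, ha.2.1 v hv, mul_assoc], fun p hp => by
          have e : ⁅a * b, p⁆ = (a * ⁅b, p⁆ * a⁻¹) * ⁅a, p⁆ := by simp [commutatorElement_def, mul_assoc]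
          rw [e]; exact mul_mem (conj_mem ha.1 (hb.2.2 p hp)) (ha.2.2 p hp)⟩
      inv_mem' := fun {a} ha => ⟨inv_mem ha.1, fun v hv => (Commute.inv_left (ha.2.1 v hv)).eq, fun p hp => by
          have e : ⁅a⁻¹, p⁆ = a⁻¹ * ⁅a, p⁆⁻¹ * a⁻¹⁻¹ := by simp [commutatorElement_def, mul_assoc]
          rw [e]; exact conj_mem (inv_mem ha.1) (inv_mem (ha.2.2 p hp))⟩ }
  refine (le_QQ (V := V) (N := N) (fun a ha => ha.1) ?_ ?_) (⟨hm, hmc, hact⟩ : m ∈ N)
  · intro k hk a ha
    refine ⟨mul_mem (mul_mem hk ha.1) (inv_mem hk), fun v hv => ?_, fun p hp => ?_⟩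
    · have := ha.2.1 (k⁻¹ * v * k) (by simpa using conj_mem (inv_mem hk) hv)
      have := congrArg (fun w => k * w * k⁻¹) this
      simpa [mul_assoc] using this
    · have := conj_mem hk (ha.2.2 (k⁻¹ * p * k) (by simpa using PP_normal (inv_mem hk) hp))
      have e : k * ⁅a, k⁻¹ * p * k⁆ * k⁻¹ = ⁅k * a * k⁻¹, p⁆ := by simp [commutatorElement_def, mul_assoc]
      rwa [e] at this
  · -- squares centralize `PP V`, their squares the radical
    intro a
    have hsq : ∀ z : G, z ∈ N → ∀ p ∈ PP V, z * z * p = p * (z * z) := by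
      intro z hz p hp
      have h1 := hz.2.2 p hp
      have e : ⁅z * z, p⁆ = (z * ⁅z, p⁆ * z⁻¹) * ⁅z, p⁆ := by simp [commutatorElement_def, mul_assoc]
      refine comm_eq_one_iff.1 ?_
      rw [e, hz.2.1 _ h1, mul_inv_cancel_right, h.sq h1]
    set z : G := (a : G) * a with hz
    have hzN : z ∈ N := mul_mem a.2 a.2
    have hzP : ∀ p ∈ PP V, z * p = p * z := hsq a a.2
    have hzQ : ∀ q ∈ QQ V, ⁅z, q⁆ ∈ V := by
      intro q hq
      have e : ⁅z, q⁆ = (z * q * z⁻¹) * q⁻¹ := by simp [commutatorElement_def]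
      have hmemQ : ⁅z, q⁆ ∈ QQ V := by
        rw [e]; exact mul_mem (QQ_normal hzN.1 hq) (inv_mem hq)
      have hcomm : ∀ p ∈ PP V, ⁅z, q⁆ * p = p * ⁅z, q⁆ := by
        intro p hp
        have hp' : q⁻¹ * p * q ∈ PP V := by simpa using PP_normal (inv_mem (QQ_le V hq)) hp
        have c1 : Commute z (q⁻¹ * p * q) := hzP _ hp'
        have c2 : Commute z p := hzP _ hp
        calc ⁅z, q⁆ * p = z * q * z⁻¹ * (q⁻¹ * p * q) * q⁻¹ := by simp [commutatorElement_def, mul_assoc]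
          _ = z * q * (q⁻¹ * p * q) * z⁻¹ * q⁻¹ := by
              rw [mul_assoc (z * q), c1.inv_left.eq, ← mul_assoc (z * q)]
          _ = z * p * q * z⁻¹ * q⁻¹ := by simp [mul_assoc]
          _ = p * ⁅z, q⁆ := by rw [c2.eq]; simp [commutatorElement_def, mul_assoc]
      have hP : ⁅z, q⁆ ∈ PP V := mem_PP.2 ⟨hmemQ, fun v hv => hcomm v (V_le_PP h hv)⟩
      exact mem_of_centralizes h hP hcomm
    have hzz : z * z ∈ QQ V := by
      refine h.cfc _ (mul_mem hzN.1 hzN.1) fun q hq => comm_eq_one_iff.1 ?_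
      have h1 := hzQ q hq
      have e : ⁅z * z, q⁆ = (z * ⁅z, q⁆ * z⁻¹) * ⁅z, q⁆ := by simp [commutatorElement_def, mul_assoc]
      rw [e, hzN.2.1 _ h1, mul_inv_cancel_right, h.sq h1]
    obtain ⟨k, hk⟩ := QQ_isPGroup V ⟨z * z, hzz⟩
    refine ⟨k + 2, Subtype.ext ?_⟩
    have hk' : (z * z) ^ 2 ^ k = 1 := by simpa using congrArg Subtype.val hk
    rw [Subgroup.coe_pow, pow_succ, pow_succ, Subgroup.coe_one, mul_assoc, mul_comm, pow_mul]
    rw [hz] at hk'
    rw [show (a : G) ^ (2 * 2) = (a : G) * a * (a * a) by simp [pow_succ, mul_assoc]]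
    exact hk'

end Cfsg.Agent.TIRad
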