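import Cfsg.Agent.Lib.Classification.TIRad.Symm
import Cfsg.Agent.Lib.Classification.JordanField

/-!
The field acting on `⟨V, X⟩`: the maps `X → V`, `a ↦ [p, a]`, for `p ∈ C_Q(V)`, read back on `X`.
-/

set_option autoImplicit false

namespace Cfsg.Agent.TIRad

open scoped commutatorElement

variable {G : Type*} [Group G] [Finite G] {V X : Subgroup G}

namespace Pair

variable (h : Pair V X)
include h

/-- An element of `C_Q(V)` whose commutation map `X → V` is bijective. -/
theorem exists_frame : ∃ b₀ ∈ PP V, (∀ u ∈ V, ∃ a ∈ X, ⁅b₀, a⁆ = u) ∧ ∀ a ∈ X, ⁅b₀, a⁆ = 1 → a = 1 := by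
  obtain ⟨Y, hY, hnd, -, hsX⟩ := h.exists_opp
  obtain ⟨b, hb, hb1⟩ := hY.nontriv
  exact ⟨b, hY.le_PP hb, hsX b hb hb1, fun a ha e => (hnd a ha b hb e).resolve_right hb1⟩

theorem X_sq (a : X) : a * a = 1 := Subtype.ext (h.hypX.sq a.2)

end Pair

/-- The set-up: a pair and a frame element. -/
structure Frame (V X : Subgroup G) where
  pair : Pair V X
  b₀ : G
  mem : b₀ ∈ PP V
  surj : ∀ u ∈ V, ∃ a ∈ X, ⁅b₀, a⁆ = u
  inj : ∀ a ∈ X, ⁅b₀, a⁆ = 1 → a = 1

namespace Frame

open scoped IsMulCommutative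

variable [IsMulCommutative ↥X] (F : Frame V X)

/-- `X` written additively. -/
abbrev A : Type _ := Additive ↥X

theorem A_add_self (a : Additive ↥X) (h : Pair V X) : a + a = 0 :=
  Additive.toMul.injective (h.X_sq (Additive.toMul a))

instance : Finite (AddMonoid.End (Additive ↥X)) := Finite.of_injective (fun f => ⇑f) DFunLike.coe_injective

/-- The identification `X ≃ V`, `a ↦ [b₀, a]`. -/
noncomputable def s : ↥X ≃ ↥V :=
  Equiv.ofBijective
    (fun a : ↥X => (⟨⁅F.b₀, (a : G)⁆, comm_mem F.pair.hyp F.mem (F.pair.le_PP a.2)⟩ : ↥V))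
    ⟨fun a c e => by
      have e' : ⁅F.b₀, (a : G)⁆ = ⁅F.b₀, (c : G)⁆ := congrArg Subtype.val e
      have h2 : ⁅F.b₀, (a : G) * c⁆ = 1 := by
        rw [comm_mul_right F.pair.hyp F.mem (F.pair.le_PP a.2) (F.pair.le_PP c.2), e',
          F.pair.hyp.sq (comm_mem F.pair.hyp F.mem (F.pair.le_PP c.2))]
      have h3 := F.inj _ (mul_mem a.2 c.2) h2
      exact Subtype.ext ((inv_eq_of_mul_eq_one_left h3).symm.trans (F.pair.hypX.inv_eq c.2)),
    fun u => by
      obtain ⟨a, ha, e⟩ := F.surj u u.2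
      exact ⟨⟨a, ha⟩, Subtype.ext e⟩⟩

theorem s_val (a : ↥X) : (F.s a : G) = ⁅F.b₀, (a : G)⁆ := rfl

theorem s_mul (a c : ↥X) : F.s (a * c) = F.s a * F.s c :=
  Subtype.ext (comm_mul_right F.pair.hyp F.mem (F.pair.le_PP a.2) (F.pair.le_PP c.2))

theorem s_one : (F.s 1 : G) = 1 := by simp [s_val, commutatorElement_def]

/-- The map of `X` attached to `p ∈ C_Q(V)`. -/
noncomputable def fOf {p : G} (hp : p ∈ PP V) : AddMonoid.End (Additive ↥X) :=
  { toFun := fun a => Additive.ofMul (F.s.symm ⟨⁅p, ((Additive.toMul a : ↥X) : G)⁆,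
      comm_mem F.pair.hyp hp (F.pair.le_PP (Additive.toMul a).2)⟩)
    map_zero' := by
      refine Additive.toMul.injective (F.s.injective (Subtype.ext ?_))
      simp [s_one, commutatorElement_def]
    map_add' := fun a c => by
      refine Additive.toMul.injective (F.s.injective ?_)
      simp only [toMul_ofMul, toMul_add, Equiv.apply_symm_apply, s_mul]
      exact Subtype.ext (comm_mul_right F.pair.hyp hp (F.pair.le_PP (Additive.toMul a).2)
        (F.pair.le_PP (Additive.toMul c).2)) }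

theorem fOf_spec {p : G} (hp : p ∈ PP V) (a : Additive ↥X) :
    (F.s (Additive.toMul (F.fOf hp a)) : G) = ⁅p, ((Additive.toMul a : ↥X) : G)⁆ :=
  congrArg Subtype.val (F.s.apply_symm_apply _)

/-- The maps coming from `C_Q(V)`. -/
noncomputable def S : AddSubgroup (AddMonoid.End (Additive ↥X)) where
  carrier := {f | ∃ p, ∃ hp : p ∈ PP V, f = F.fOf hp}
  zero_mem' := ⟨1, one_mem _, DFunLike.ext _ _ fun a =>
    Additive.toMul.injective (F.s.injective (Subtype.ext (by
      rw [fOf_spec]; simp [s_one, commutatorElement_def])))⟩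
  add_mem' := by
    rintro _ _ ⟨p, hp, rfl⟩ ⟨q, hq, rfl⟩
    refine ⟨p * q, mul_mem hp hq, DFunLike.ext _ _ fun a =>
      Additive.toMul.injective (F.s.injective (Subtype.ext ?_))⟩
    show (F.s (Additive.toMul (F.fOf hp a + F.fOf hq a)) : G) = _
    rw [toMul_add, s_mul, Subgroup.coe_mul, fOf_spec, fOf_spec, fOf_spec,
      comm_mul_left F.pair.hyp hp hq (F.pair.le_PP (Additive.toMul a).2)]
  neg_mem' := by
    rintro _ ⟨p, hp, rfl⟩
    refine ⟨p, hp, DFunLike.ext _ _ fun a => ?_⟩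
    show -(F.fOf hp a) = F.fOf hp a
    exact neg_eq_of_add_eq_zero_left (A_add_self _ F.pair)

theorem mem_S {f : AddMonoid.End (Additive ↥X)} :
    f ∈ F.S ↔ ∃ p, ∃ hp : p ∈ PP V, f = F.fOf hp := Iff.rfl

include F in
theorem char : (1 : AddMonoid.End (Additive ↥X)) + 1 = 0 :=
  DFunLike.ext _ _ fun a => A_add_self a F.pair

theorem one_mem_S : (1 : AddMonoid.End (Additive ↥X)) ∈ F.S :=
  ⟨F.b₀, F.mem, DFunLike.ext _ _ fun a =>
    Additive.toMul.injective (F.s.injective (Subtype.ext (by rw [fOf_spec]; rfl)))⟩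

theorem eq_zero_of_apply {f : AddMonoid.End (Additive ↥X)} (hf : f ∈ F.S) {a : Additive ↥X} (ha : a ≠ 0)
    (e : f a = 0) : f = 0 := by
  obtain ⟨p, hp, rfl⟩ := hf
  have h1 : ⁅p, ((Additive.toMul a : ↥X) : G)⁆ = 1 := by rw [← F.fOf_spec hp, e]; exact F.s_one
  refine DFunLike.ext _ _ fun c => Additive.toMul.injective (F.s.injective (Subtype.ext ?_))
  rw [fOf_spec, F.pair.fix_all hp (Additive.toMul a).2 (fun e' => ha (Additive.toMul.injective (Subtype.ext e')))
    h1 (Additive.toMul c).2]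
  exact F.s_one.symm

include F in
theorem exists_ne : ∃ a : Additive ↥X, a ≠ 0 := by
  obtain ⟨a, ha, ha1⟩ := F.pair.nontriv
  exact ⟨Additive.ofMul ⟨a, ha⟩, fun e => ha1 (congrArg (fun z => ((Additive.toMul z : ↥X) : G)) e)⟩

theorem injective_of_mem {f : AddMonoid.End (Additive ↥X)} (hf : f ∈ F.S) (hf0 : f ≠ 0) :
    Function.Injective f := by
  rw [injective_iff_map_eq_zero f]
  intro a e
  by_contra ha
  exact hf0 (F.eq_zero_of_apply hf ha e)

theorem eq_of_apply {f g : AddMonoid.End (Additive ↥X)} (hf : f ∈ F.S) (hg : g ∈ F.S) {a : Additive ↥X}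
    (ha : a ≠ 0) (e : f a = g a) : f = g :=
  sub_eq_zero.1 (F.eq_zero_of_apply (F.S.sub_mem hf hg) ha
    (show f a - g a = 0 by rw [e, sub_self]))

/-- Evaluation at a non-zero point. -/
theorem eval_bijective {a : Additive ↥X} (ha : a ≠ 0) :
    Function.Bijective (fun f : F.S => (f : AddMonoid.End (Additive ↥X)) a) := by
  refine ⟨fun f g e => Subtype.ext (F.eq_of_apply f.2 g.2 ha e), fun c => ?_⟩
  obtain ⟨p, hp, e⟩ := F.pair.cover (Additive.toMul a).2
    (fun e' => ha (Additive.toMul.injective (Subtype.ext e'))) (F.s (Additive.toMul c)).2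
  exact ⟨⟨F.fOf hp, p, hp, rfl⟩,
    Additive.toMul.injective (F.s.injective (Subtype.ext ((F.fOf_spec hp a).trans e)))⟩

theorem card_S : Nat.card F.S = Nat.card ↥X := by
  obtain ⟨a, ha⟩ := F.exists_ne
  rw [Nat.card_congr (Equiv.ofBijective _ (F.eval_bijective ha))]
  exact Nat.card_congr Additive.toMul

/-- The maps coming from `C_Q(X)`. -/
noncomputable def T : AddSubgroup (AddMonoid.End (Additive ↥X)) where
  carrier := {g | ∃ q ∈ PP X, ∀ a : Additive ↥X,
    ⁅q, (F.s (Additive.toMul a) : G)⁆ = ((Additive.toMul (g a) : ↥X) : G)}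
  zero_mem' := ⟨1, one_mem _, fun a => by simp [commutatorElement_def]⟩
  add_mem' := by
    rintro f g ⟨p, hp, ep⟩ ⟨q, hq, eq⟩
    refine ⟨p * q, mul_mem hp hq, fun a => ?_⟩
    show _ = ((Additive.toMul (f a + g a) : ↥X) : G)
    rw [toMul_add, Subgroup.coe_mul, ← ep a, ← eq a,
      comm_mul_left F.pair.hypX hp hq (F.pair.symm.le_PP (F.s (Additive.toMul a)).2)]
  neg_mem' := by
    rintro f ⟨p, hp, ep⟩
    refine ⟨p, hp, fun a => ?_⟩
    show _ = ((Additive.toMul (-(f a)) : ↥X) : G)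
    rw [ep a, neg_eq_of_add_eq_zero_left (A_add_self (f a) F.pair)]

theorem eq_zero_of_apply_T {g : AddMonoid.End (Additive ↥X)} (hg : g ∈ F.T) {a : Additive ↥X} (ha : a ≠ 0)
    (e : g a = 0) : g = 0 := by
  obtain ⟨q, hq, eq⟩ := hg
  have h1 : ⁅q, (F.s (Additive.toMul a) : G)⁆ = 1 := by rw [eq a, e]; rfl
  have hne : (F.s (Additive.toMul a) : G) ≠ 1 := by
    intro e'
    apply ha
    refine Additive.toMul.injective (F.s.injective (Subtype.ext ?_))
    rw [e']; exact F.s_one.symm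
  refine DFunLike.ext _ _ fun c => Additive.toMul.injective (Subtype.ext ?_)
  rw [← eq c, F.pair.symm.fix_all hq (F.s (Additive.toMul a)).2 hne h1 (F.s (Additive.toMul c)).2]
  rfl

theorem card_T_le : Nat.card F.T ≤ Nat.card ↥X := by
  obtain ⟨a, ha⟩ := F.exists_ne
  refine (Nat.card_le_card_of_injective (fun g : F.T => (g : AddMonoid.End (Additive ↥X)) a)
    fun f g e => Subtype.ext (sub_eq_zero.1 (F.eq_zero_of_apply_T (F.T.sub_mem f.2 g.2) ha
      (show (f : AddMonoid.End (Additive ↥X)) a - (g : AddMonoid.End (Additive ↥X)) a = 0 by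
        simp only at e; rw [e, sub_self])))).trans ?_
  exact (Nat.card_congr Additive.toMul).le

/-- A non-zero map from `C_Q(V)` has its inverse among those from `C_Q(X)`. -/
theorem exists_inv_mem_T {f : AddMonoid.End (Additive ↥X)} (hf : f ∈ F.S) (hf0 : f ≠ 0) :
    ∃ g ∈ F.T, g * f = 1 ∧ f * g = 1 := by
  have hfS := hf
  obtain ⟨p, hp, rfl⟩ := hf
  obtain ⟨a₁, ha₁⟩ := F.exists_ne
  have hU := F.pair.of_cj hp
  set x₁ : G := ((Additive.toMul a₁ : ↥X) : G) with hx₁
  set u₁ := ⁅p, x₁⁆ with hu₁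
  have hu₁V : u₁ ∈ V := comm_mem F.pair.hyp hp (F.pair.le_PP (Additive.toMul a₁).2)
  have hwU : u₁ * x₁ ∈ TIRad.cj p X := ⟨x₁, (Additive.toMul a₁).2, by rw [hu₁]; exact conj_eq_comm_mul p x₁⟩
  have hw : u₁ * x₁ ∈ X ⊔ V :=
    mul_mem (Subgroup.mem_sup_right hu₁V) (Subgroup.mem_sup_left (Additive.toMul a₁).2)
  have hwX : u₁ * x₁ ∉ X := by
    intro hh
    have hu1 : u₁ = 1 := F.pair.eq_one hu₁V (by
      have := mul_mem hh (inv_mem (Additive.toMul a₁).2)
      rwa [← hx₁, mul_inv_cancel_right] at this)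
    refine ha₁ ((injective_iff_map_eq_zero _).1 (F.injective_of_mem hfS hf0) a₁
      (Additive.toMul.injective (F.s.injective (Subtype.ext ?_))))
    rw [fOf_spec, ← hx₁, ← hu₁, hu1]; exact F.s_one.symm
  rcases F.pair.symm.mem_component hw with hh | ⟨q, hq, hqw⟩
  · exact absurd hh hwX
  have hw1 : u₁ * x₁ ≠ 1 := fun e => hwX (e ▸ one_mem X)
  have hUq : TIRad.cj q V = TIRad.cj p X := by
    obtain ⟨x, hx⟩ := F.pair.conj
    have e := ((F.pair.hyp.cj q).ti (p * x * q⁻¹)).resolve_right fun e => hw1 (Subgroup.mem_bot.1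
      (e ▸ Subgroup.mem_inf.2 ⟨by rw [cj_cj, inv_mul_cancel_right, ← cj_cj, ← hx]; exact hwU, hqw⟩))
    rw [cj_cj, inv_mul_cancel_right, ← cj_cj, ← hx] at e
    exact e.symm
  let g : AddMonoid.End (Additive ↥X) :=
    { toFun := fun a => Additive.ofMul (⟨⁅q, (F.s (Additive.toMul a) : G)⁆,
        comm_mem F.pair.hypX hq (F.pair.symm.le_PP (F.s (Additive.toMul a)).2)⟩ : ↥X)
      map_zero' := Additive.toMul.injective (Subtype.ext (by simp [s_one, commutatorElement_def]))
      map_add' := fun a c => Additive.toMul.injective (Subtype.ext (by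
        simp only [toMul_ofMul, toMul_add, s_mul, Subgroup.coe_mul]
        exact comm_mul_right F.pair.hypX hq (F.pair.symm.le_PP (F.s (Additive.toMul a)).2)
          (F.pair.symm.le_PP (F.s (Additive.toMul c)).2))) }
  have hgf : g * F.fOf hp = 1 := by
    refine DFunLike.ext _ _ fun a => Additive.toMul.injective (Subtype.ext ?_)
    show ⁅q, (F.s (Additive.toMul (F.fOf hp a)) : G)⁆ = ((Additive.toMul a : ↥X) : G)
    rw [fOf_spec]
    set x : G := ((Additive.toMul a : ↥X) : G)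
    have hxX : x ∈ X := (Additive.toMul a).2
    have hcV : ⁅p, x⁆ ∈ V := comm_mem F.pair.hyp hp (F.pair.le_PP hxX)
    obtain ⟨v, hv, ev⟩ : ⁅p, x⁆ * x ∈ TIRad.cj q V := hUq ▸ ⟨x, hxX, conj_eq_comm_mul p x⟩
    change q * v * q⁻¹ = _ at ev
    rw [conj_eq_comm_mul] at ev
    have htX : ⁅q, v⁆ ∈ X := comm_mem F.pair.hypX hq (F.pair.symm.le_PP hv)
    -- compare components
    have hvc : v = ⁅p, x⁆ := by
      have h0 : ⁅p, x⁆⁻¹ * v = x * ⁅q, v⁆⁻¹ := by
        have e2 : v * ⁅q, v⁆ = ⁅p, x⁆ * x := by rw [F.pair.comm_V hv htX]; exact ev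
        calc ⁅p, x⁆⁻¹ * v = ⁅p, x⁆⁻¹ * (v * ⁅q, v⁆) * ⁅q, v⁆⁻¹ := by rw [← mul_assoc, mul_inv_cancel_right]
          _ = _ := by rw [e2, inv_mul_cancel_left]
      have h1 := F.pair.eq_one (mul_mem (inv_mem hcV) hv) (h0 ▸ mul_mem hxX (inv_mem htX))
      exact (inv_mul_eq_one.1 h1).symm
    rw [← hvc]
    rw [← hvc, F.pair.comm_V hv hxX] at ev
    exact mul_right_cancel ev
  refine ⟨g, ⟨q, hq, fun a => rfl⟩, hgf, DFunLike.ext _ _ fun a => ?_⟩
  obtain ⟨c, rfl⟩ := (Finite.injective_iff_surjective.1 (F.injective_of_mem hfS hf0)) a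
  show F.fOf hp (g (F.fOf hp c)) = F.fOf hp c
  rw [show g (F.fOf hp c) = c from DFunLike.congr_fun hgf c]

theorem nat_card_le_T : Nat.card F.S ≤ Nat.card F.T := by
  classical
  let Φ : F.S → F.T := fun f =>
    if hf : (f : AddMonoid.End (Additive ↥X)) = 0 then 0
    else ⟨Classical.choose (F.exists_inv_mem_T f.2 hf), (Classical.choose_spec (F.exists_inv_mem_T f.2 hf)).1⟩
  have hne : (1 : AddMonoid.End (Additive ↥X)) ≠ 0 := fun e => by
    obtain ⟨a, ha⟩ := F.exists_ne
    exact ha (DFunLike.congr_fun e a)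
  have key : ∀ (f : F.S) (hf : (f : AddMonoid.End (Additive ↥X)) ≠ 0),
      ((Φ f : F.T) : AddMonoid.End (Additive ↥X)) * f = 1 ∧
        (f : AddMonoid.End (Additive ↥X)) * (Φ f : F.T) = 1 := by
    intro f hf
    simp only [Φ, dif_neg hf]
    exact (Classical.choose_spec (F.exists_inv_mem_T f.2 hf)).2
  refine Nat.card_le_card_of_injective Φ fun f g e => ?_
  by_cases hf : (f : AddMonoid.End (Additive ↥X)) = 0
  · by_cases hg : (g : AddMonoid.End (Additive ↥X)) = 0
    · exact Subtype.ext (hf.trans hg.symm)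
    · exfalso
      have h1 := (key g hg).1
      rw [← e, show Φ f = 0 from dif_pos hf, AddSubgroup.coe_zero, zero_mul] at h1
      exact hne h1.symm
  · by_cases hg : (g : AddMonoid.End (Additive ↥X)) = 0
    · exfalso
      have h1 := (key f hf).1
      rw [e, show Φ g = 0 from dif_pos hg, AddSubgroup.coe_zero, zero_mul] at h1
      exact hne h1.symm
    · refine Subtype.ext ?_
      calc (f : AddMonoid.End (Additive ↥X)) = f * ((Φ g : F.T) * g) := by rw [(key g hg).1, mul_one]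
        _ = (f * (Φ f : F.T)) * g := by rw [← e, mul_assoc]
        _ = g := by rw [(key f hf).2, one_mul]

theorem inv_of_mem_T {g : AddMonoid.End (Additive ↥X)} (hg : g ∈ F.T) (hg0 : g ≠ 0) :
    ∃ f ∈ F.S, g * f = 1 ∧ f * g = 1 := by
  classical
  have hcard : Nat.card F.T = Nat.card F.S := le_antisymm (F.card_S.symm ▸ F.card_T_le) F.nat_card_le_T
  let Φ : F.S → F.T := fun f =>
    if hf : (f : AddMonoid.End (Additive ↥X)) = 0 then 0
    else ⟨Classical.choose (F.exists_inv_mem_T f.2 hf), (Classical.choose_spec (F.exists_inv_mem_T f.2 hf)).1⟩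
  have key : ∀ (f : F.S) (hf : (f : AddMonoid.End (Additive ↥X)) ≠ 0),
      ((Φ f : F.T) : AddMonoid.End (Additive ↥X)) * f = 1 ∧
        (f : AddMonoid.End (Additive ↥X)) * (Φ f : F.T) = 1 := by
    intro f hf
    simp only [Φ, dif_neg hf]
    exact (Classical.choose_spec (F.exists_inv_mem_T f.2 hf)).2
  have hinj : Function.Injective Φ := by
    intro f f' e
    by_cases hf : (f : AddMonoid.End (Additive ↥X)) = 0
    · by_cases hf' : (f' : AddMonoid.End (Additive ↥X)) = 0
      · exact Subtype.ext (hf.trans hf'.symm)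
      · have h1 := (key f' hf').1
        rw [← e, show Φ f = 0 from dif_pos hf, AddSubgroup.coe_zero, zero_mul] at h1
        obtain ⟨a, ha⟩ := F.exists_ne
        exact absurd (DFunLike.congr_fun h1 a).symm ha
    · by_cases hf' : (f' : AddMonoid.End (Additive ↥X)) = 0
      · have h1 := (key f hf).1
        rw [e, show Φ f' = 0 from dif_pos hf', AddSubgroup.coe_zero, zero_mul] at h1
        obtain ⟨a, ha⟩ := F.exists_ne
        exact absurd (DFunLike.congr_fun h1 a).symm ha
      · refine Subtype.ext ?_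
        calc (f : AddMonoid.End (Additive ↥X)) = f * ((Φ f' : F.T) * f') := by rw [(key f' hf').1, mul_one]
          _ = (f * (Φ f : F.T)) * f' := by rw [← e, mul_assoc]
          _ = f' := by rw [(key f hf).2, one_mul]
  obtain ⟨f, hf⟩ := (hinj.bijective_of_nat_card_le hcard.le).2 ⟨g, hg⟩
  have hf0 : (f : AddMonoid.End (Additive ↥X)) ≠ 0 := fun e0 => by
    rw [show Φ f = 0 from dif_pos e0] at hf
    exact hg0 (congrArg Subtype.val hf).symm
  obtain ⟨h1, h2⟩ := key f hf0
  rw [hf] at h1 h2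
  exact ⟨f, f.2, h1, h2⟩

/-- Hua's identity: `S` is closed under `a c a` for `c ∈ T`. -/
theorem aca_mem {a c : AddMonoid.End (Additive ↥X)} (ha : a ∈ F.S) (hc : c ∈ F.T) : a * c * a ∈ F.S := by
  by_cases ha0 : a = 0
  · rw [ha0, zero_mul, zero_mul]; exact F.S.zero_mem
  by_cases hc0 : c = 0
  · rw [hc0, mul_zero, zero_mul]; exact F.S.zero_mem
  obtain ⟨c', hc', hcc', hc'c⟩ := F.inv_of_mem_T hc hc0
  by_cases hd : c' + a = 0
  · have : c' = a := by
      rw [eq_neg_of_add_eq_zero_left hd]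
      exact DFunLike.ext _ _ fun z => neg_eq_of_add_eq_zero_left (A_add_self (a z) F.pair)
    rw [← this, hc'c, one_mul]; exact hc'
  obtain ⟨a', ha', haa', -⟩ := F.exists_inv_mem_T ha ha0
  obtain ⟨d', hd', hdd', -⟩ := F.exists_inv_mem_T (F.S.add_mem hc' ha) hd
  have h2 : ∀ z : AddMonoid.End (Additive ↥X), z + z = 0 := fun z =>
    DFunLike.ext _ _ fun w => A_add_self (z w) F.pair
  have h1 : d' * (a + a * c * a) = c * a := by
    calc d' * (a + a * c * a) = d' * ((c' + a) * (c * a)) := by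
          congr 1
          rw [add_mul, ← mul_assoc c', hc'c, one_mul, mul_assoc]
      _ = c * a := by rw [← mul_assoc, hdd', one_mul]
  have he : (a' + d') * (a + a * c * a) = 1 := by
    rw [add_mul, h1, mul_add, ← mul_assoc a', ← mul_assoc a', haa', one_mul, add_assoc, h2, add_zero]
  by_cases he0 : a' + d' = 0
  · rw [he0, zero_mul] at he
    obtain ⟨z, hz⟩ := F.exists_ne
    exact absurd (DFunLike.congr_fun he z).symm hz
  obtain ⟨f, hf, -, hf2⟩ := F.inv_of_mem_T (F.T.add_mem ha' hd') he0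
  have e : f = a + a * c * a := by
    calc f = f * ((a' + d') * (a + a * c * a)) := by rw [he, mul_one]
      _ = a + a * c * a := by rw [← mul_assoc, hf2, one_mul]
  have := F.S.sub_mem (e ▸ hf) ha
  rwa [add_sub_cancel_left] at this

theorem T_eq_S : F.T = F.S := by
  have hle : F.T ≤ F.S := fun c hc => by
    have := F.aca_mem F.one_mem_S hc
    rwa [one_mul, mul_one] at this
  refine le_antisymm hle fun f hf => ?_
  obtain ⟨g, hg⟩ := ((AddSubgroup.inclusion_injective hle).bijective_of_nat_card_le F.nat_card_le_T).2 ⟨f, hf⟩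
  exact (show (g : AddMonoid.End (Additive ↥X)) = f from congrArg Subtype.val hg) ▸ g.2

theorem jsys : JordanField.JSys F.S := by
  refine ⟨F.char, F.one_mem_S, fun a ha ha0 => ?_, fun a ha b hb => F.aca_mem ha (F.T_eq_S.symm ▸ hb)⟩
  obtain ⟨g, hg, h1, h2⟩ := F.exists_inv_mem_T ha ha0
  exact ⟨g, F.T_eq_S ▸ hg, h2, h1⟩

/-- `S` as a subring. -/
noncomputable def ring : Subring (AddMonoid.End (Additive ↥X)) :=
  { F.S with
    one_mem' := F.one_mem_S
    mul_mem' := fun ha hb => JordanField.mul_mem_of_commute F.jsys ha hb (F.jsys.commute ha hb) }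

/-- A field of the order of `V` acting simply transitively on `X`, with both commutation maps in it. -/
theorem exists_field : ∃ (K : Type) (_ : Field K) (_ : Fintype K), Fintype.card K = Nat.card ↥V ∧
    ∃ m : K →+* AddMonoid.End (Additive ↥X),
      (∀ (a : Additive ↥X), a ≠ 0 → Function.Bijective fun x : K => m x a) ∧
      (∀ x : K, ∃ p ∈ PP V, ∀ a : ↥X, ⁅p, (a : G)⁆ = F.s (Additive.toMul (m x (Additive.ofMul a)))) ∧
      (∀ p ∈ PP V, ∃ x : K, ∀ a : ↥X, ⁅p, (a : G)⁆ = F.s (Additive.toMul (m x (Additive.ofMul a)))) ∧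
      (∀ x : K, ∃ q ∈ PP X, ∀ a : ↥X, ⁅q, (F.s a : G)⁆ = ((Additive.toMul (m x (Additive.ofMul a)) : ↥X) : G)) ∧
      (∀ q ∈ PP X, ∃ x : K, ∀ a : ↥X, ⁅q, (F.s a : G)⁆ = ((Additive.toMul (m x (Additive.ofMul a)) : ↥X) : G)) := by
  classical
  set R := F.ring with hR
  have hmemR : ∀ f, f ∈ R ↔ f ∈ F.S := fun f => Iff.rfl
  letI : CommRing R := { (inferInstance : Ring R) with
    mul_comm := fun a b => Subtype.ext (F.jsys.commute a.2 b.2).eq }
  haveI : Nontrivial R := ⟨⟨0, 1, fun e => by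
    obtain ⟨a, ha⟩ := F.exists_ne
    exact ha (DFunLike.congr_fun (congrArg Subtype.val e) a).symm⟩⟩
  haveI : NoZeroDivisors R := ⟨fun {x y} e => by
    by_cases hx : (x : AddMonoid.End (Additive ↥X)) = 0
    · exact Or.inl (Subtype.ext hx)
    · exact Or.inr (Subtype.ext (F.jsys.eq_zero_of_mul x.2 hx (congrArg Subtype.val e)))⟩
  haveI : IsDomain R := NoZeroDivisors.to_isDomain _
  haveI : Fintype R := Fintype.ofFinite _
  letI : Field R := (Finite.isField_of_domain R).toField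
  have hcardR : Fintype.card R = Nat.card ↥X := by rw [← Nat.card_eq_fintype_card]; exact F.card_S
  haveI : CharP R 2 := (CharP.charP_iff_prime_eq_zero Nat.prime_two).2 (Subtype.ext (by
    rw [show ((2 : ℕ) : R) = 1 + 1 by norm_num]
    exact F.char))
  obtain ⟨n, hp2, hn⟩ := FiniteField.card R 2
  let K := GaloisField 2 (n : ℕ)
  letI : Fintype K := Fintype.ofFinite K
  have hKcard : Fintype.card K = Fintype.card R := by
    rw [← Nat.card_eq_fintype_card, GaloisField.card 2 (n : ℕ) n.2.ne', hn]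
  let e : K ≃+* R := FiniteField.ringEquivOfCardEq hKcard
  refine ⟨K, inferInstance, inferInstance, by rw [hKcard, hcardR, F.pair.card],
    (R.subtype).comp e.toRingHom, fun a ha => ?_, fun x => ?_, fun p hp => ?_, fun x => ?_, fun q hq => ?_⟩
  · exact (F.eval_bijective ha).comp e.bijective
  · obtain ⟨p, hp, ep⟩ := (hmemR _).1 (e x).2
    refine ⟨p, hp, fun a => ?_⟩
    show _ = (F.s (Additive.toMul ((e x : AddMonoid.End (Additive ↥X)) (Additive.ofMul a))) : G)
    rw [ep, fOf_spec]; rfl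
  · refine ⟨e.symm ⟨F.fOf hp, p, hp, rfl⟩, fun a => ?_⟩
    show _ = (F.s (Additive.toMul ((e (e.symm _) : AddMonoid.End (Additive ↥X)) (Additive.ofMul a))) : G)
    rw [e.apply_symm_apply, fOf_spec]; rfl
  · have h1 : (e x : AddMonoid.End (Additive ↥X)) ∈ F.T := F.T_eq_S.symm ▸ (hmemR _).1 (e x).2
    obtain ⟨q, hq, eq⟩ := h1
    exact ⟨q, hq, fun a => eq (Additive.ofMul a)⟩
  · let g : AddMonoid.End (Additive ↥X) :=
      { toFun := fun a => Additive.ofMul (⟨⁅q, (F.s (Additive.toMul a) : G)⁆,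
          comm_mem F.pair.hypX hq (F.pair.symm.le_PP (F.s (Additive.toMul a)).2)⟩ : ↥X)
        map_zero' := Additive.toMul.injective (Subtype.ext (by simp [s_one, commutatorElement_def]))
        map_add' := fun a c => Additive.toMul.injective (Subtype.ext (by
          simp only [toMul_ofMul, toMul_add, s_mul, Subgroup.coe_mul]
          exact comm_mul_right F.pair.hypX hq (F.pair.symm.le_PP (F.s (Additive.toMul a)).2)
            (F.pair.symm.le_PP (F.s (Additive.toMul c)).2))) }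
    have hg : g ∈ F.T := ⟨q, hq, fun a => rfl⟩
    refine ⟨e.symm ⟨g, (hmemR _).2 (F.T_eq_S ▸ hg)⟩, fun a => ?_⟩
    show _ = ((Additive.toMul ((e (e.symm _) : AddMonoid.End (Additive ↥X)) (Additive.ofMul a)) : ↥X) : G)
    rw [e.apply_symm_apply]; rfl

end Frame

end Cfsg.Agent.TIRad
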