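import Cfsg.Agent.Lib.Classification.TIRad.Field
import Mathlib.LinearAlgebra.Matrix.SpecialLinearGroup

/-!
The action on `W = ⟨V, X⟩` is `SL₂` over a field of order `|V|`, and its consequences for the radical.
-/

set_option autoImplicit false

namespace Cfsg.Agent.TIRad

open scoped commutatorElement IsMulCommutative
open Matrix

/-- The upper transvection. -/
def uMat {K : Type*} [CommRing K] (x : K) : SpecialLinearGroup (Fin 2) K :=
  ⟨!![1, x; 0, 1], by simp [Matrix.det_fin_two]⟩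

/-- The lower transvection. -/
def lMat {K : Type*} [CommRing K] (x : K) : SpecialLinearGroup (Fin 2) K :=
  ⟨!![1, 0; x, 1], by simp [Matrix.det_fin_two]⟩

theorem uMat_coe {K : Type*} [CommRing K] (x : K) :
    ((uMat x : SpecialLinearGroup (Fin 2) K) : Matrix (Fin 2) (Fin 2) K) = !![1, x; 0, 1] := rfl

theorem lMat_coe {K : Type*} [CommRing K] (x : K) :
    ((lMat x : SpecialLinearGroup (Fin 2) K) : Matrix (Fin 2) (Fin 2) K) = !![1, 0; x, 1] := rfl

theorem sl2_generated {K : Type*} [Field K] (S : Subgroup (SpecialLinearGroup (Fin 2) K))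
    (hu : ∀ x, uMat x ∈ S) (hl : ∀ x, lMat x ∈ S) : ∀ A, A ∈ S := by
  have key : ∀ A : SpecialLinearGroup (Fin 2) K, A 1 0 ≠ 0 → A ∈ S := by
    intro A hc
    have hd : A 0 0 * A 1 1 - A 0 1 * A 1 0 = 1 := by rw [← Matrix.det_fin_two]; exact A.det_coe
    have e : A = uMat ((A 0 0 - 1) / A 1 0) * lMat (A 1 0) * uMat ((A 1 1 - 1) / A 1 0) := by
      ext i j
      fin_cases i <;> fin_cases j <;>
        simp [uMat_coe, lMat_coe, SpecialLinearGroup.coe_mul, Matrix.mul_apply, Fin.sum_univ_two] <;> field_simp <;> first | linear_combination hd | linear_combination -hd | ring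
    rw [e]
    exact mul_mem (mul_mem (hu _) (hl _)) (hu _)
  intro A
  by_cases hc : A 1 0 = 0
  · have hd : A 0 0 * A 1 1 - A 0 1 * A 1 0 = 1 := by rw [← Matrix.det_fin_two]; exact A.det_coe
    have h1 : A * lMat 1 ∈ S := key _ (by
      have : A 1 1 ≠ 0 := fun e => by simp [hc, e] at hd
      simpa [lMat_coe, SpecialLinearGroup.coe_mul, Matrix.mul_apply, Fin.sum_univ_two, hc] using this)
    simpa using mul_mem h1 (inv_mem (hl 1))
  · exact key A hc

variable {G : Type*} [Group G] [Finite G] {V X : Subgroup G}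

namespace Pair

variable (h : Pair V X)
include h

theorem comm_pq {v a : G} (hv : v ∈ V) (ha : a ∈ X) : v * a = a * v := h.comm_V hv ha

/-- The action of `C_Q(V)` and `C_Q(X)` on `⟨V, X⟩` generates `SL₂` of a field of order `|V|`. -/
theorem exists_SL2 (hN : PP V ⊔ PP X ≤ Subgroup.normalizer ((V ⊔ X : Subgroup G) : Set G)) :
    ∃ (K : Type) (_ : Field K) (_ : Fintype K), Fintype.card K = Nat.card ↥V ∧
      ∃ ψ : SpecialLinearGroup (Fin 2) K →* MulAut ↥(V ⊔ X : Subgroup G), Function.Injective ψ ∧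
        ψ.range = ((V ⊔ X : Subgroup G).normalizerMonoidHom.comp (Subgroup.inclusion hN)).range ∧
        (∀ u ∈ V, u ≠ 1 → ∀ u' ∈ V, u' ≠ 1 → ∃ k ∈ PP V ⊔ PP X, k ∈ Subgroup.normalizer (V : Set G) ∧
          k * u * k⁻¹ = u') := by
  classical
  haveI : IsMulCommutative ↥X := h.hypX.ea.1
  obtain ⟨b₀, hb₀, hsurj, hinj⟩ := h.exists_frame
  let F : Frame V X := ⟨h, b₀, hb₀, hsurj, hinj⟩
  obtain ⟨K, iK, iKf, hcard, m, hbij, hS1, hS2, hT1, hT2⟩ := F.exists_field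
  obtain ⟨a₀, ha₀⟩ := F.exists_ne
  refine ⟨K, iK, iKf, hcard, ?_⟩
  set W : Subgroup G := V ⊔ X with hW
  -- coordinates
  let pt : K → ↥X := fun x => Additive.toMul (m x a₀)
  have pt_add : ∀ x y, pt (x + y) = pt x * pt y := fun x y => by
    simp only [pt, map_add]; rfl
  have pt_bij : Function.Bijective pt := Additive.toMul.bijective.comp (hbij a₀ ha₀)
  have pt_mul : ∀ x y, pt (x * y) = Additive.toMul (m x (Additive.ofMul (pt y))) := fun x y => by
    simp only [pt, map_mul]; rfl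
  let ι : (Fin 2 → K) → ↥W := fun v =>
    ⟨(F.s (pt (v 0)) : G) * (pt (v 1) : G),
      mul_mem (Subgroup.mem_sup_left (F.s (pt (v 0))).2) (Subgroup.mem_sup_right (pt (v 1)).2)⟩
  have ι_val : ∀ v, ((ι v : ↥W) : G) = (F.s (pt (v 0)) : G) * (pt (v 1) : G) := fun v => rfl
  have ι_add : ∀ v w, ι (v + w) = ι v * ι w := by
    intro v w
    refine Subtype.ext ?_
    rw [Subgroup.coe_mul, ι_val, ι_val, ι_val, Pi.add_apply, Pi.add_apply, pt_add, pt_add, F.s_mul,
      Subgroup.coe_mul, Subgroup.coe_mul]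
    have c := h.comm_V (F.s (pt (w 0))).2 (pt (v 1)).2
    calc (F.s (pt (v 0)) : G) * F.s (pt (w 0)) * ((pt (v 1) : G) * pt (w 1))
        = F.s (pt (v 0)) * ((F.s (pt (w 0)) : G) * pt (v 1)) * pt (w 1) := by simp [mul_assoc]
      _ = _ := by rw [c]; simp [mul_assoc]
  have ι_inj : Function.Injective ι := by
    intro v w e
    have e' : (F.s (pt (v 0)) : G) * (pt (v 1) : G) = F.s (pt (w 0)) * pt (w 1) := congrArg Subtype.val e
    have h1 : (F.s (pt (w 0)) : G)⁻¹ * F.s (pt (v 0)) = (pt (w 1) : G) * (pt (v 1) : G)⁻¹ := by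
      rw [eq_mul_inv_iff_mul_eq, mul_assoc, e', inv_mul_cancel_left]
    have h2 := h.eq_one (mul_mem (inv_mem (F.s (pt (w 0))).2) (F.s (pt (v 0))).2)
      (h1 ▸ mul_mem (pt (w 1)).2 (inv_mem (pt (v 1)).2))
    have h3 : v 0 = w 0 := pt_bij.1 (F.s.injective (Subtype.ext (inv_mul_eq_one.1 h2).symm))
    rw [h2] at h1
    have h4 : v 1 = w 1 := pt_bij.1 (Subtype.ext (mul_inv_eq_one.1 h1.symm).symm)
    funext i; fin_cases i
    · exact h3
    · exact h4
  have ι_surj : Function.Surjective ι := by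
    rintro ⟨w, hw⟩
    obtain ⟨u, hu, a, ha, e⟩ := h.mem_sup hw
    obtain ⟨x, hx⟩ := pt_bij.2 (F.s.symm ⟨u, hu⟩)
    obtain ⟨y, hy⟩ := pt_bij.2 ⟨a, ha⟩
    refine ⟨![x, y], Subtype.ext ?_⟩
    rw [ι_val]
    simp [hx, hy, e]
  let ιe : (Fin 2 → K) ≃ ↥W := Equiv.ofBijective ι ⟨ι_inj, ι_surj⟩
  let act : SpecialLinearGroup (Fin 2) K → ↥W → ↥W := fun A w => ι ((A : Matrix (Fin 2) (Fin 2) K) *ᵥ ιe.symm w)
  have act_ι : ∀ A v, act A (ι v) = ι ((A : Matrix (Fin 2) (Fin 2) K) *ᵥ v) := fun A v => by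
    show ι ((A : Matrix (Fin 2) (Fin 2) K) *ᵥ ιe.symm (ιe v)) = _
    rw [ιe.symm_apply_apply]
  have act_mul : ∀ A B w, act (A * B) w = act A (act B w) := fun A B w => by
    obtain ⟨v, rfl⟩ := ι_surj w
    rw [act_ι (A * B) v, act_ι B v, act_ι A, Matrix.mulVec_mulVec]
    rfl
  have act_one : ∀ w, act 1 w = w := fun w => by
    obtain ⟨v, rfl⟩ := ι_surj w
    rw [act_ι]
    exact congrArg ι (Matrix.one_mulVec v)
  let ψ : SpecialLinearGroup (Fin 2) K →* MulAut ↥W :=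
    { toFun := fun A =>
        { toFun := act A
          invFun := act A⁻¹
          left_inv := fun w => by rw [← act_mul, inv_mul_cancel, act_one]
          right_inv := fun w => by rw [← act_mul, mul_inv_cancel, act_one]
          map_mul' := fun w w' => by
            obtain ⟨v, rfl⟩ := ι_surj w
            obtain ⟨v', rfl⟩ := ι_surj w'
            rw [← ι_add, act_ι, act_ι, act_ι, Matrix.mulVec_add, ι_add] }
      map_one' := MulEquiv.ext act_one
      map_mul' := fun A B => MulEquiv.ext (act_mul A B) }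
  have ψ_ι : ∀ A v, ψ A (ι v) = ι ((A : Matrix (Fin 2) (Fin 2) K) *ᵥ v) := act_ι
  refine ⟨ψ, ?_, ?_⟩
  · intro A B e
    refine Subtype.ext (Matrix.ext fun i j => ?_)
    have := ι_inj (((ψ_ι A (Pi.single j 1)).symm.trans (DFunLike.congr_fun e _)).trans (ψ_ι B _))
    simpa using congrFun this i
  set ρ := W.normalizerMonoidHom.comp (Subgroup.inclusion hN) with hρ
  have ρ_apply : ∀ (k : ↥(PP V ⊔ PP X)) (w : ↥W), ((ρ k w : ↥W) : G) = (k : G) * w * (k : G)⁻¹ :=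
    fun k w => rfl
  have hP : ∀ (p : G) (hp : p ∈ PP V) (x : K),
      (∀ a : ↥X, ⁅p, (a : G)⁆ = F.s (Additive.toMul (m x (Additive.ofMul a)))) →
      ρ ⟨p, Subgroup.mem_sup_left hp⟩ = ψ (uMat x) := by
    intro p hp x hx
    refine MulEquiv.ext fun w => ?_
    obtain ⟨v, rfl⟩ := ι_surj w
    rw [ψ_ι]
    refine Subtype.ext ?_
    rw [ρ_apply, ι_val, ι_val]
    have e0 : ((uMat x : SpecialLinearGroup (Fin 2) K) : Matrix (Fin 2) (Fin 2) K) *ᵥ v =
        ![v 0 + x * v 1, v 1] := by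
      funext i; fin_cases i <;> simp [uMat, Matrix.mulVec, dotProduct, Fin.sum_univ_two]
    rw [e0]
    simp only [Matrix.cons_val_zero, Matrix.cons_val_one]
    rw [pt_add, pt_mul, F.s_mul, Subgroup.coe_mul, ← hx (pt (v 1))]
    calc p * ((F.s (pt (v 0)) : G) * pt (v 1)) * p⁻¹
        = (p * (F.s (pt (v 0)) : G) * p⁻¹) * (p * pt (v 1) * p⁻¹) := by simp [mul_assoc]
      _ = (F.s (pt (v 0)) : G) * (⁅p, (pt (v 1) : G)⁆ * pt (v 1)) := by
          rw [(mem_PP.1 hp).2 _ (F.s (pt (v 0))).2, mul_inv_cancel_right, conj_eq_comm_mul]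
      _ = _ := (mul_assoc _ _ _).symm
  have hQ : ∀ (q : G) (hq : q ∈ PP X) (x : K),
      (∀ a : ↥X, ⁅q, (F.s a : G)⁆ = ((Additive.toMul (m x (Additive.ofMul a)) : ↥X) : G)) →
      ρ ⟨q, Subgroup.mem_sup_right hq⟩ = ψ (lMat x) := by
    intro q hq x hx
    refine MulEquiv.ext fun w => ?_
    obtain ⟨v, rfl⟩ := ι_surj w
    rw [ψ_ι]
    refine Subtype.ext ?_
    rw [ρ_apply, ι_val, ι_val]
    have e0 : ((lMat x : SpecialLinearGroup (Fin 2) K) : Matrix (Fin 2) (Fin 2) K) *ᵥ v =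
        ![v 0, x * v 0 + v 1] := by
      funext i; fin_cases i <;> simp [lMat, Matrix.mulVec, dotProduct, Fin.sum_univ_two]
    rw [e0]
    simp only [Matrix.cons_val_zero, Matrix.cons_val_one]
    rw [pt_add, pt_mul, Subgroup.coe_mul, ← hx (pt (v 0))]
    have htX : ⁅q, (F.s (pt (v 0)) : G)⁆ ∈ X := comm_mem h.hypX hq (h.symm.le_PP (F.s (pt (v 0))).2)
    calc q * ((F.s (pt (v 0)) : G) * pt (v 1)) * q⁻¹
        = (q * (F.s (pt (v 0)) : G) * q⁻¹) * (q * pt (v 1) * q⁻¹) := by simp [mul_assoc]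
      _ = (⁅q, (F.s (pt (v 0)) : G)⁆ * F.s (pt (v 0))) * pt (v 1) := by
          rw [(mem_PP.1 hq).2 _ (pt (v 1)).2, mul_inv_cancel_right, conj_eq_comm_mul]
      _ = (F.s (pt (v 0)) : G) * (⁅q, (F.s (pt (v 0)) : G)⁆ * pt (v 1)) := by
          rw [← h.comm_V (F.s (pt (v 0))).2 htX]; simp [mul_assoc]
  have hle1 : ρ.range ≤ ψ.range := by
    rintro _ ⟨⟨k, hk⟩, rfl⟩
    have hsub : PP V ⊔ PP X ≤ (ψ.range.comap ρ).map (PP V ⊔ PP X).subtype := by
      refine sup_le (fun p hp => ?_) (fun q hq => ?_)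
      · obtain ⟨x, hx⟩ := hS2 p hp
        exact ⟨⟨p, Subgroup.mem_sup_left hp⟩, ⟨_, (hP p hp x hx).symm⟩, rfl⟩
      · obtain ⟨x, hx⟩ := hT2 q hq
        exact ⟨⟨q, Subgroup.mem_sup_right hq⟩, ⟨_, (hQ q hq x hx).symm⟩, rfl⟩
    obtain ⟨k', hk', e⟩ := hsub hk
    have e' : k' = ⟨k, hk⟩ := Subtype.ext e
    rw [← e']
    exact hk'
  have hmem : ∀ A, ψ A ∈ ρ.range := by
    intro A
    refine sl2_generated (ρ.range.comap ψ) (fun x => ?_) (fun x => ?_) A
    · obtain ⟨p, hp, hx⟩ := hS1 x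
      exact ⟨_, hP p hp x hx⟩
    · obtain ⟨q, hq, hx⟩ := hT1 x
      exact ⟨_, hQ q hq x hx⟩
  refine ⟨le_antisymm (by rintro _ ⟨A, rfl⟩; exact hmem A) hle1, fun u hu hu1 u' hu' hu'1 => ?_⟩
  obtain ⟨x, hx⟩ := pt_bij.2 (F.s.symm ⟨u, hu⟩)
  obtain ⟨y, hy⟩ := pt_bij.2 (F.s.symm ⟨u', hu'⟩)
  have pt0 : pt 0 = 1 := by simp [pt]
  have hne : ∀ z : K, ∀ (t : G) (ht : t ∈ V), t ≠ 1 → pt z = F.s.symm ⟨t, ht⟩ → z ≠ 0 := by
    rintro z t ht ht1 e rfl
    apply ht1
    have := congrArg (fun a => (F.s a : G)) e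
    simp only [pt0, Equiv.apply_symm_apply] at this
    rw [← this]; exact F.s_one
  have hx0 := hne x u hu hu1 hx
  have hy0 := hne y u' hu' hu'1 hy
  let A : SpecialLinearGroup (Fin 2) K := ⟨!![y / x, 0; 0, x / y], by
    rw [Matrix.det_fin_two_of]; field_simp; ring⟩
  obtain ⟨⟨k, hk⟩, hk'⟩ := hmem A
  have hcol : ∀ z : K, (A : Matrix (Fin 2) (Fin 2) K) *ᵥ ![z, 0] = ![y / x * z, 0] := fun z => by
    funext i; fin_cases i <;> simp [A, Matrix.mulVec, dotProduct, Fin.sum_univ_two]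
  have hconj : ∀ z : K, k * (F.s (pt z) : G) * k⁻¹ = F.s (pt (y / x * z)) := by
    intro z
    have e1 := congrArg (fun f : MulAut ↥W => ((f (ι ![z, 0]) : ↥W) : G)) hk'
    simp only [ψ_ι, ρ_apply, hcol, ι_val] at e1
    simpa [pt0] using e1
  refine ⟨k, hk, mem_normalizer_of_cj_le ?_, ?_⟩
  · rintro _ ⟨v, hv, rfl⟩
    obtain ⟨z, hz⟩ := pt_bij.2 (F.s.symm ⟨v, hv⟩)
    show k * v * k⁻¹ ∈ V
    rw [show v = (F.s (pt z) : G) by rw [hz, Equiv.apply_symm_apply], hconj]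
    exact (F.s _).2
  · rw [show u = (F.s (pt x) : G) by rw [hx, Equiv.apply_symm_apply], hconj, div_mul_cancel₀ y hx0, hy,
      Equiv.apply_symm_apply]

/-- The radical centralizes `V`. -/
theorem QQ_eq_PP : QQ V = PP V := by
  have hN : PP V ⊔ PP X ≤ Subgroup.normalizer ((V ⊔ X : Subgroup G) : Set G) :=
    sup_le h.PP_le_normalizer_sup (sup_comm X V ▸ h.symm.PP_le_normalizer_sup)
  obtain ⟨K, iK, iKf, -, ψ, -, -, htr⟩ := h.exists_SL2 hN
  obtain ⟨a, ha, ha1⟩ := h.symm.nontriv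
  have hVQ : (V.subgroupOf (QQ V)) ≠ ⊥ := fun e => ha1 (by
    have hmem : (⟨a, le_QQ_self h.hyp ha⟩ : ↥(QQ V)) ∈ V.subgroupOf (QQ V) := ha
    rw [e, Subgroup.mem_bot] at hmem
    exact congrArg Subtype.val hmem)
  haveI : (V.subgroupOf (QQ V)).Normal :=
    (Subgroup.normal_subgroupOf_iff_le_normalizer (le_QQ_self h.hyp)).2 (QQ_le V)
  obtain ⟨⟨z, hz⟩, hz1⟩ :=
    Subgroup.ne_bot_iff_exists_ne_one.1 (normal_meets_center (QQ_isPGroup V) hVQ)
  obtain ⟨hzV, hzc⟩ := Subgroup.mem_inf.1 hz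
  have hzV' : (z : G) ∈ V := hzV
  have hz1' : (z : G) ≠ 1 := fun e => hz1 (Subtype.ext (Subtype.ext e))
  refine le_antisymm (fun q hq => mem_PP.2 ⟨hq, fun v hv => ?_⟩) inf_le_left
  by_cases hv1 : v = 1
  · subst hv1; simp
  obtain ⟨k, -, hkN, rfl⟩ := htr _ hzV' hz1' v hv hv1
  have hq' : k⁻¹ * q * k ∈ QQ V := by simpa using QQ_normal (inv_mem hkN) hq
  have e : (k⁻¹ * q * k) * (z : G) = (z : G) * (k⁻¹ * q * k) :=
    congrArg Subtype.val (Subgroup.mem_center_iff.1 hzc ⟨_, hq'⟩)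
  have := congrArg (fun w => k * w * k⁻¹) e
  simpa [mul_assoc] using this

theorem center_eq : (Subgroup.center ↥(QQ V)).map (QQ V).subtype = V := by
  refine le_antisymm ?_ fun v hv => ?_
  · rintro _ ⟨z, hz, rfl⟩
    refine mem_of_centralizes h.hyp (h.QQ_eq_PP ▸ z.2) fun p hp => ?_
    exact congrArg Subtype.val (Subgroup.mem_center_iff.1 hz ⟨p, (Subgroup.mem_inf.1 hp).1⟩).symm
  · refine ⟨⟨v, le_QQ_self h.hyp hv⟩, Subgroup.mem_center_iff.2 fun q => Subtype.ext ?_, rfl⟩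
    exact (mem_PP.1 (h.QQ_eq_PP ▸ q.2)).2 v hv

theorem commutator_eq : (_root_.commutator ↥(QQ V)).map (QQ V).subtype = V := by
  rw [Subgroup.map_subtype_commutator]
  refine le_antisymm (Subgroup.commutator_le.2 fun p hp q hq => ?_) fun u hu => ?_
  · rw [h.QQ_eq_PP] at hp hq; exact comm_mem h.hyp hp hq
  · obtain ⟨a, ha, ha1⟩ := h.nontriv
    obtain ⟨p, hp, rfl⟩ := h.cover ha ha1 hu
    exact Subgroup.commutator_mem_commutator (Subgroup.mem_inf.1 hp).1 (h.le ha)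

theorem frattini_eq : (frattini ↥(QQ V)).map (QQ V).subtype = V := by
  haveI : Group.IsNilpotent ↥(QQ V) := (QQ_isPGroup V).isNilpotent
  refine le_antisymm ?_ ?_
  · rintro _ ⟨x, hx, rfl⟩
    by_contra hxV
    obtain ⟨K, hK⟩ := (Set.toFinite {K : Subgroup ↥(QQ V) | V.subgroupOf (QQ V) ≤ K ∧ x ∉ K}).exists_maximal
      ⟨V.subgroupOf (QQ V), le_rfl, hxV⟩
    obtain ⟨hKV, hxK⟩ := hK.1
    have hsq : ∀ g : ↥(QQ V), g * g ∈ K := fun g =>
      hKV (sq_mem h.hyp (h.QQ_eq_PP ▸ g.2) : ((g * g : ↥(QQ V)) : G) ∈ V)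
    have hcomm : ∀ g g' : ↥(QQ V), ⁅g, g'⁆ ∈ K := fun g g' =>
      hKV (comm_mem h.hyp (h.QQ_eq_PP ▸ g.2) (h.QQ_eq_PP ▸ g'.2) : ((⁅g, g'⁆ : ↥(QQ V)) : G) ∈ V)
    have hinv : ∀ g : ↥(QQ V), g⁻¹ = g * (g * g)⁻¹ := fun g => by simp [mul_assoc]
    have hnorm : ∀ g : ↥(QQ V), ∀ k ∈ K, g * k * g⁻¹ ∈ K := fun g k hk => by
      rw [conj_eq_comm_mul]; exact mul_mem (hcomm g k) hk
    -- `K ∪ K g` is a subgroup
    have key : ∀ g : ↥(QQ V), g ∉ K → x * g⁻¹ ∈ K := by
      intro g hg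
      let L : Subgroup ↥(QQ V) :=
        { carrier := {z | z ∈ K ∨ z * g⁻¹ ∈ K}
          one_mem' := Or.inl (one_mem K)
          mul_mem' := by
            rintro a b (ha | ha) (hb | hb)
            · exact Or.inl (mul_mem ha hb)
            · right; rw [mul_assoc]; exact mul_mem ha hb
            · right
              have e : a * b * g⁻¹ = (a * g⁻¹) * (g * b * g⁻¹) := by simp [mul_assoc]
              rw [e]; exact mul_mem ha (hnorm g b hb)
            · left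
              have e : a * b = (a * g⁻¹) * (g * (b * g⁻¹) * g⁻¹) * (g * g) := by simp [mul_assoc]
              rw [e]; exact mul_mem (mul_mem ha (hnorm g _ hb)) (hsq g)
          inv_mem' := by
            rintro a (ha | ha)
            · exact Or.inl (inv_mem ha)
            · right
              have e : a⁻¹ * g⁻¹ = g⁻¹ * (a * g⁻¹)⁻¹ * g⁻¹⁻¹ * (g * g)⁻¹ := by simp [mul_assoc]
              rw [e]; exact mul_mem (hnorm g⁻¹ _ (inv_mem ha)) (inv_mem (hsq g)) }
      have hKL : K ≤ L := fun z hz => Or.inl hz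
      have hxL : x ∈ L := by
        by_contra hxL
        exact hg (hK.2 ⟨hKV.trans hKL, hxL⟩ hKL (Or.inr (by rw [mul_inv_cancel]; exact one_mem K)))
      exact (hxL.resolve_left hxK)
    have hcoatom : IsCoatom K := by
      refine ⟨fun e => hxK (e ▸ Subgroup.mem_top x), fun L hL => ?_⟩
      obtain ⟨g, hgL, hgK⟩ := SetLike.exists_of_lt hL
      have hxL : x ∈ L := by
        have := mul_mem (hL.le (key g hgK)) hgL
        rwa [inv_mul_cancel_right] at this
      refine eq_top_iff.2 fun z _ => ?_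
      by_cases hzK : z ∈ K
      · exact hL.le hzK
      · have := mul_mem (inv_mem (hL.le (key z hzK))) hxL
        simpa [mul_assoc] using this
    exact hxK (frattini_le_coatom hcoatom hx)
  · calc V = (_root_.commutator ↥(QQ V)).map (QQ V).subtype := h.commutator_eq.symm
      _ ≤ _ := by
        refine Subgroup.map_mono (le_iInf₂ fun K hK => ?_)
        haveI hKn := Subgroup.NormalizerCondition.normal_of_coatom (H := K) Group.normalizerCondition_of_isNilpotent hK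
        obtain ⟨g, -, hg⟩ := SetLike.exists_of_lt hK.lt_top
        refine hKn.commutator_le_of_self_sup_commutative_eq_top (H := Subgroup.zpowers g)
          (hK.2 _ (lt_of_le_of_ne le_sup_left fun e => hg (e ▸ Subgroup.mem_sup_right (Subgroup.mem_zpowers g))))
          inferInstance

end Pair

end Cfsg.Agent.TIRad
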