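import Cfsg.Agent.Lib.Classification.TIRad.Basic

/-!
If a conjugate `X` of `V` lies in the radical of `N(V)`, then `V` lies in the radical of `N(X)`.
-/

set_option autoImplicit false

namespace Cfsg.Agent.TIRad

open scoped commutatorElement

variable {G : Type*} [Group G] [Finite G] {V X : Subgroup G}

theorem Pair.cj' (h : Pair V X) (x : G) : Pair (TIRad.cj x V) (TIRad.cj x X) := by
  refine ⟨h.hyp.cj x, ?_, fun e => h.ne ?_, ?_⟩
  · obtain ⟨y, hy⟩ := h.conj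
    exact ⟨x * y * x⁻¹, by rw [hy, cj_cj, cj_cj, inv_mul_cancel_right]⟩
  · have := congrArg (TIRad.cj x⁻¹) e
    rwa [cj_cj, cj_cj, inv_mul_cancel, cj_one, cj_one] at this
  · rw [← cj_QQ]; exact cj_mono h.le

theorem comm_inv_eq (a b : G) : ⁅b, a⁆ = ⁅a, b⁆⁻¹ := (commutatorElement_inv a b).symm

/-- A description of `C_Q(V)` as a product of two elementary abelian subgroups. -/
structure Split (V Z₁ Z₂ : Subgroup G) : Prop where
  pair₁ : Pair V Z₁
  pair₂ : Pair V Z₂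
  mem : ∀ p ∈ PP V, ∃ w₁ ∈ V ⊔ Z₁, ∃ w₂ ∈ V ⊔ Z₂, p = w₁ * w₂
  inv : ∀ p ∈ PP V, p * p = 1 → p ∈ V ⊔ Z₁ ∨ p ∈ V ⊔ Z₂
  noncomm : ∀ a ∈ V ⊔ Z₁, ∀ b ∈ V ⊔ Z₂, a * b = b * a → a ∈ V ∨ b ∈ V

theorem Split.cj {Z₁ Z₂ : Subgroup G} (h : Split V Z₁ Z₂) (x : G) :
    Split (TIRad.cj x V) (TIRad.cj x Z₁) (TIRad.cj x Z₂) := by
  refine ⟨h.pair₁.cj' x, h.pair₂.cj' x, ?_, ?_, ?_⟩
  · intro p hp
    rw [← cj_PP, mem_cj] at hp
    obtain ⟨a, ha, b, hb, e⟩ := h.mem _ hp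
    refine ⟨x * a * x⁻¹, ?_, x * b * x⁻¹, ?_, ?_⟩
    · rw [← Subgroup.map_sup]; exact ⟨a, ha, rfl⟩
    · rw [← Subgroup.map_sup]; exact ⟨b, hb, rfl⟩
    · have := congrArg (fun w => x * w * x⁻¹) e
      simpa [mul_assoc] using this
  · intro p hp hpp
    rw [← cj_PP, mem_cj] at hp
    rw [← Subgroup.map_sup, ← Subgroup.map_sup, mem_cj, mem_cj]
    refine h.inv _ hp ?_
    calc x⁻¹ * p * x * (x⁻¹ * p * x) = x⁻¹ * (p * p) * x := by simp [mul_assoc]
      _ = 1 := by rw [hpp]; simp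
  · intro a ha b hb e
    rw [← Subgroup.map_sup, mem_cj] at ha hb
    rw [mem_cj, mem_cj]
    refine h.noncomm _ ha _ hb ?_
    have := congrArg (fun w => x⁻¹ * w * x) e
    simpa [mul_assoc] using this

namespace Pair

variable (h : Pair V X)
include h

/-- The perfect pairing with an opposite conjugate. -/
theorem exists_opp : ∃ Y, Pair V Y ∧
    (∀ a ∈ X, ∀ b ∈ Y, ⁅b, a⁆ = 1 → a = 1 ∨ b = 1) ∧
    (∀ a ∈ X, a ≠ 1 → ∀ u ∈ V, ∃ b ∈ Y, ⁅b, a⁆ = u) ∧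
    (∀ b ∈ Y, b ≠ 1 → ∀ u ∈ V, ∃ a ∈ X, ⁅b, a⁆ = u) := by
  obtain ⟨m, hm, hle, a₀, ha₀, b₀, hb₀, hne⟩ := h.exists_opposite
  have hY : Pair V (TIRad.cj m X) := by
    refine ⟨h.hyp, ?_, fun e => h.ne ?_, hle.trans inf_le_left⟩
    · obtain ⟨x, rfl⟩ := h.conj; exact ⟨m * x, cj_cj m x V⟩
    · have := congrArg (TIRad.cj m⁻¹) e
      rwa [cj_cj, inv_mul_cancel, cj_one, cj_eq_of_mem_normalizer (inv_mem hm)] at this
  have hnd : ∀ a ∈ X, ∀ b ∈ TIRad.cj m X, ⁅b, a⁆ = 1 → a = 1 ∨ b = 1 := by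
    intro a ha b hb e
    by_contra hc
    push Not at hc
    have h1 : ⁅b₀, a⁆ = 1 :=
      comm_symm (comm_eq_one_iff.1 (hY.fix_all (h.le_PP ha) hb hc.2 (comm_symm (comm_eq_one_iff.1 e)) hb₀))
    exact hne (h.fix_all (hY.le_PP hb₀) ha hc.1 h1 ha₀)
  refine ⟨_, hY, hnd, fun a ha ha1 u hu => ?_, fun b hb hb1 u hu => ?_⟩
  · let f : ↥(TIRad.cj m X) → ↥V := fun b => ⟨⁅(b : G), a⁆, comm_mem h.hyp (hle b.2) (h.le_PP ha)⟩
    have hf : Function.Injective f := by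
      intro b c e
      have e' : ⁅(b : G), a⁆ = ⁅(c : G), a⁆ := congrArg Subtype.val e
      have h2 : ⁅(b : G) * c, a⁆ = 1 := by
        rw [comm_mul_left h.hyp (hle b.2) (hle c.2) (h.le_PP ha), e',
          h.hyp.sq (comm_mem h.hyp (hle c.2) (h.le_PP ha))]
      have h3 := (hnd a ha _ (mul_mem b.2 c.2) h2).resolve_left ha1
      exact Subtype.ext ((inv_eq_of_mul_eq_one_left h3).symm.trans (hY.hypX.inv_eq c.2))
    obtain ⟨b, hb⟩ := (hf.bijective_of_nat_card_le (by rw [hY.card])).2 ⟨u, hu⟩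
    exact ⟨b, b.2, congrArg Subtype.val hb⟩
  · let f : ↥X → ↥V := fun a => ⟨⁅b, (a : G)⁆, comm_mem h.hyp (hle hb) (h.le_PP a.2)⟩
    have hf : Function.Injective f := by
      intro a c e
      have e' : ⁅b, (a : G)⁆ = ⁅b, (c : G)⁆ := congrArg Subtype.val e
      have h2 : ⁅b, (a : G) * c⁆ = 1 := by
        rw [comm_mul_right h.hyp (hle hb) (h.le_PP a.2) (h.le_PP c.2), e',
          h.hyp.sq (comm_mem h.hyp (hle hb) (h.le_PP c.2))]
      have h3 := (hnd _ (mul_mem a.2 c.2) b hb h2).resolve_right hb1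
      exact Subtype.ext ((inv_eq_of_mul_eq_one_left h3).symm.trans (h.hypX.inv_eq c.2))
    obtain ⟨a, ha⟩ := (hf.bijective_of_nat_card_le (by rw [h.card])).2 ⟨u, hu⟩
    exact ⟨a, a.2, congrArg Subtype.val ha⟩

/-- An element of `C_Q(V)` commuting with `C_Q(⟨V, X⟩)` is in `⟨V, X⟩`. -/
theorem mem_sup_of_comm_K {d : G} (hd : d ∈ PP V)
    (hc : ∀ k ∈ PP V, (∀ a ∈ X, k * a = a * k) → d * k = k * d) : d ∈ V ⊔ X := by
  obtain ⟨Y, hY, hnd, hsY, hsX⟩ := h.exists_opp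
  obtain ⟨b₀, hb₀, hb₀1⟩ := hY.nontriv
  obtain ⟨a₀, ha₀, ha₀1⟩ := h.nontriv
  obtain ⟨a, ha, e⟩ := hsX b₀ hb₀ hb₀1 _ (comm_mem h.hyp (hY.le_PP hb₀) hd)
  have hd' : d * a ∈ PP V := mul_mem hd (h.le_PP ha)
  have e' : ⁅b₀, d * a⁆ = 1 := by
    rw [comm_mul_right h.hyp (hY.le_PP hb₀) hd (h.le_PP ha), e, h.hyp.sq (comm_mem h.hyp (hY.le_PP hb₀) hd)]
  have hallY : ∀ b ∈ Y, (d * a) * b = b * (d * a) := fun b hb =>
    comm_eq_one_iff.1 (hY.fix_all hd' hb₀ hb₀1 (comm_symm (comm_eq_one_iff.1 e')) hb)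
  have hV : d * a ∈ V := by
    refine mem_of_centralizes h.hyp hd' fun p hp => ?_
    obtain ⟨b, hb, eb⟩ := hsY a₀ ha₀ ha₀1 _ (comm_mem h.hyp hp (h.le_PP ha₀))
    have hk : b * p ∈ PP V := mul_mem (hY.le_PP hb) hp
    have hk0 : ⁅b * p, a₀⁆ = 1 := by
      rw [comm_mul_left h.hyp (hY.le_PP hb) hp (h.le_PP ha₀), eb, h.hyp.sq (comm_mem h.hyp hp (h.le_PP ha₀))]
    have hkX : ∀ a' ∈ X, (b * p) * a' = a' * (b * p) := fun a' ha' =>
      comm_eq_one_iff.1 (h.fix_all hk ha₀ ha₀1 hk0 ha')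
    have c1 : Commute (d * a) (b * p) := Commute.mul_left (hc _ hk hkX) (hkX a ha).symm
    have c2 : Commute (d * a) b⁻¹ := Commute.inv_right (hallY b hb)
    have := c2.mul_right c1
    simpa using this.eq
  have : d = (d * a) * a := by rw [mul_assoc, h.hypX.sq ha, mul_one]
  rw [this]
  exact mul_mem (Subgroup.mem_sup_left hV) (Subgroup.mem_sup_right ha)

theorem sup_sq {w : G} (hw : w ∈ V ⊔ X) : w * w = 1 := by
  obtain ⟨u, hu, a, ha, rfl⟩ := h.mem_sup hw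
  calc u * a * (u * a) = u * (a * u) * a := by simp [mul_assoc]
    _ = u * u * (a * a) := by rw [← h.comm_V hu ha]; simp [mul_assoc]
    _ = 1 := by rw [h.hyp.sq hu, h.hypX.sq ha, mul_one]

theorem sup_le_PP : V ⊔ X ≤ PP V := sup_le (V_le_PP h.hyp) h.le_PP

/-- Elements of `V ∩ Q(X)` in the first case. -/
theorem mem_QQ_of_meets {u₀ : G} (hu₀ : u₀ ∈ V) (hu₀Q : u₀ ∈ QQ X) (hu₀1 : u₀ ≠ 1) : V ≤ QQ X := by
  have hX := h.hypX
  have hu₀P : u₀ ∈ PP X := mem_PP.2 ⟨hu₀Q, fun a ha => h.comm_V hu₀ ha⟩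
  have hconj : ∀ y, y ∈ Subgroup.normalizer (V : Set G) → ∀ v ∈ V, ⁅y, v⁆ ∈ V := fun y hy v hv => by
    rw [commutatorElement_def]; exact mul_mem (conj_mem hy hv) (inv_mem hv)
  have hfix : ∀ y : G, ∀ c ∈ V, c ≠ 1 → ⁅y, c⁆ = 1 → y ∈ Subgroup.normalizer (V : Set G) := by
    intro y c hc hc1 e
    rw [Subgroup.mem_normalizer_iff_map_conj_eq]
    refine (h.hyp.ti y).resolve_right fun e' => hc1 (Subgroup.mem_bot.1 (e' ▸ Subgroup.mem_inf.2 ⟨⟨c, hc, ?_⟩, hc⟩))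
    show y * c * y⁻¹ = c
    rw [comm_eq_one_iff.1 e, mul_inv_cancel_right]
  have hout : ∀ y ∈ PP X, y ∉ Subgroup.normalizer (V : Set G) → ∀ u ∈ V, ⁅y, u⁆ ∈ X := by
    intro y hy hyN u hu
    have ht₀ : ⁅y, u₀⁆ ∈ X := comm_mem hX hy hu₀P
    have ht₀1 : ⁅y, u₀⁆ ≠ 1 := fun e => hyN (hfix y u₀ hu₀ hu₀1 e)
    have hw : y * u₀ * y⁻¹ ∈ V ⊔ X := by
      rw [conj_eq_comm_mul]; exact mul_mem (Subgroup.mem_sup_right ht₀) (Subgroup.mem_sup_left hu₀)
    have hw1 : y * u₀ * y⁻¹ ≠ 1 := fun e => hu₀1 (by simpa [mul_assoc] using congrArg (fun w => y⁻¹ * w * y) e)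
    rcases h.conj_meets (y := y) ⟨u₀, hu₀, rfl⟩ hw hw1 with e | ⟨p, hp, e⟩
    · exact absurd (Subgroup.mem_normalizer_iff_map_conj_eq.2 e) hyN
    have hyu : y * u * y⁻¹ ∈ V ⊔ X := h.cj_le_sup hp (e ▸ ⟨u, hu, rfl⟩)
    obtain ⟨a, ha, b, hb, hab⟩ := h.mem_sup hyu
    have hbP : b ∈ PP X := V_le_PP hX hb
    have hcomm_eq : ⁅y, u⁆ = (a * u) * b := by
      rw [commutatorElement_def, hab, h.hyp.inv_eq hu, mul_assoc, ← h.comm_V hu hb, ← mul_assoc]
    have huN : u ∈ Subgroup.normalizer (X : Set G) := h.V_le_normalizer hu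
    have hyuP : ⁅y, u⁆ ∈ PP X := by
      rw [show ⁅y, u⁆ = y * (u * y⁻¹ * u⁻¹) by simp [commutatorElement_def, mul_assoc]]
      exact mul_mem hy (PP_normal huN (inv_mem hy))
    have hcP : a * u ∈ PP X := by
      have := mul_mem hyuP (inv_mem hbP)
      rwa [hcomm_eq, mul_inv_cancel_right] at this
    have hcV : a * u ∈ V := mul_mem ha hu
    have hy2 : y * y ∈ X := sq_mem hX hy
    have hbc : y * b = b * y := (mem_PP.1 hy).2 b hb
    have hu2 : (y * y) * u * (y * y)⁻¹ = u := by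
      rw [← h.comm_V hu hy2, mul_inv_cancel_right]
    have hya : y * a * y⁻¹ = u * b := by
      have e1 : (y * a * y⁻¹) * (y * b * y⁻¹) = u := by
        calc _ = y * (a * b) * y⁻¹ := by simp [mul_assoc]
          _ = (y * y) * u * (y * y)⁻¹ := by rw [← hab]; simp [mul_assoc]
          _ = u := hu2
      rw [show y * b * y⁻¹ = b by rw [hbc, mul_inv_cancel_right]] at e1
      rw [← e1, mul_assoc _ b, hX.sq hb, mul_one]
    have hca : a * u * a = u := by rw [h.hyp.comm ha hu, mul_assoc, h.hyp.sq ha, mul_one]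
    have ht : ⁅y, a * u⁆ = 1 := by
      have e2 : y * a * y⁻¹ = ⁅y, a * u⁆ * (u * b) := by
        calc y * a * y⁻¹ = (y * (a * u) * y⁻¹) * (y * u * y⁻¹) := by
              simp only [mul_assoc, inv_mul_cancel_left]
              rw [← mul_assoc u u, h.hyp.sq hu, one_mul]
          _ = ⁅y, a * u⁆ * ((a * u * a) * b) := by rw [conj_eq_comm_mul, hab]; simp only [mul_assoc]
          _ = _ := by rw [hca]
      rw [hya] at e2
      exact mul_right_eq_self₀' e2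
    have hc1 : a * u = 1 := by
      by_contra hc
      exact hyN (hfix y _ hcV hc ht)
    rw [hcomm_eq, hc1, one_mul]; exact hb
  obtain ⟨y, hy, hyN⟩ : ∃ y ∈ PP X, y ∉ Subgroup.normalizer (V : Set G) := by
    by_contra hall
    push Not at hall
    refine hu₀1 (h.eq_one hu₀ (mem_of_centralizes hX hu₀P fun y hy => ?_))
    exact (comm_eq_one_iff.1 (h.eq_one (hconj y (hall y hy) u₀ hu₀) (comm_mem hX hy hu₀P))).symm
  intro u hu
  refine mem_QQ_of_trivial hX (h.V_le_normalizer hu) (fun a ha => h.comm_V hu ha) fun z hz => ?_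
  rw [comm_inv_eq]
  refine inv_mem ?_
  by_cases hzN : z ∈ Subgroup.normalizer (V : Set G)
  · have hzy : z * y ∉ Subgroup.normalizer (V : Set G) := fun e => hyN (by
      have := mul_mem (inv_mem hzN) e; simpa using this)
    have h1 := hout _ (mul_mem hz hy) hzy u hu
    have h2 := hout y hy hyN u hu
    have e : ⁅z * y, u⁆ = ⁅y, u⁆ * ⁅z, u⁆ := by
      have e0 : ⁅z * y, u⁆ = (z * ⁅y, u⁆ * z⁻¹) * ⁅z, u⁆ := by simp [commutatorElement_def, mul_assoc]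
      rw [e0, (mem_PP.1 hz).2 _ h2, mul_inv_cancel_right]
    have := mul_mem (inv_mem h2) h1
    rwa [e, inv_mul_cancel_left] at this
  · exact hout z hz hzN u hu
where
  mul_right_eq_self₀' {t w : G} (e : w = t * w) : t = 1 := by
    have := congrArg (fun z => z * w⁻¹) e; simpa using this.symm

/-- `V` lies in the radical of `N(X)`. -/
theorem V_le_QQ : V ≤ QQ X := by
  by_cases hex : ∃ u₀ ∈ V, u₀ ∈ QQ X ∧ u₀ ≠ 1
  · obtain ⟨u₀, h1, h2, h3⟩ := hex; exact h.mem_QQ_of_meets h1 h2 h3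
  push Not at hex
  exfalso
  have hX := h.hypX
  have hVP : ∀ u ∈ V, u ∈ PP X → u = 1 := fun u hu hp => hex u hu (mem_PP.1 hp).1
  have huN : ∀ u ∈ V, u ∈ Subgroup.normalizer (X : Set G) := fun u hu => h.V_le_normalizer hu
  have hcommP : ∀ y ∈ PP X, ∀ u ∈ V, ⁅y, u⁆ ∈ PP X := fun y hy u hu => by
    rw [show ⁅y, u⁆ = y * (u * y⁻¹ * u⁻¹) by simp [commutatorElement_def, mul_assoc]]
    exact mul_mem hy (PP_normal (huN u hu) (inv_mem hy))
  -- `N(V) ∩ C_Q'(X)` centralizes `V`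
  have B1 : ∀ y ∈ PP X, y ∈ Subgroup.normalizer (V : Set G) → ∀ u ∈ V, y * u = u * y := by
    intro y hy hyN u hu
    refine comm_eq_one_iff.1 (hVP _ ?_ (hcommP y hy u hu))
    rw [commutatorElement_def]
    exact mul_mem (conj_mem hyN hu) (inv_mem hu)
  have B2 : ∀ y ∈ PP X, ∀ u ∈ V, u ≠ 1 → ⁅y, u⁆ ∈ X → y ∈ Subgroup.normalizer (V : Set G) := by
    intro y hy u hu hu1 hc
    by_contra hyN
    have hw : y * u * y⁻¹ ∈ V ⊔ X := by
      rw [conj_eq_comm_mul]; exact mul_mem (Subgroup.mem_sup_right hc) (Subgroup.mem_sup_left hu)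
    have hw1 : y * u * y⁻¹ ≠ 1 := fun e => hu1 (by simpa [mul_assoc] using congrArg (fun w => y⁻¹ * w * y) e)
    rcases h.conj_meets (y := y) ⟨u, hu, rfl⟩ hw hw1 with e | ⟨p, hp, e⟩
    · exact hyN (Subgroup.mem_normalizer_iff_map_conj_eq.2 e)
    have hy2 : TIRad.cj (y * y) V = V :=
      cj_eq_of_mem_normalizer (PP_le_normalizer V (h.le_PP (sq_mem hX hy)))
    have hle : TIRad.cj y (TIRad.cj p X) ≤ QQ (TIRad.cj y V) := ((h.of_cj hp).cj' y).le
    rw [← e, cj_cj, hy2, e, ← cj_QQ] at hle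
    have h1 : u ∈ TIRad.cj p (QQ X) := hle hu
    rw [mem_cj, mul_assoc, ← (mem_PP.1 hp).2 u hu, inv_mul_cancel_left] at h1
    exact hu1 (hex u hu h1)
  obtain ⟨u, hu, hu1⟩ : ∃ u ∈ V, u ≠ 1 := by
    obtain ⟨a, ha, ha1⟩ := h.nontriv
    by_contra hall
    push Not at hall
    obtain ⟨x, hx⟩ := h.conj
    rw [hx, mem_cj] at ha
    exact ha1 (by simpa [mul_assoc] using congrArg (fun w => x * w * x⁻¹) (hall _ ha))
  have hkN : ∀ k ∈ PP V, (∀ a ∈ X, k * a = a * k) → k ∈ Subgroup.normalizer (X : Set G) := by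
    intro k _ hkX
    refine mem_normalizer_of_cj_le ?_
    rintro _ ⟨a, ha, rfl⟩
    show k * a * k⁻¹ ∈ X
    rw [hkX a ha, mul_inv_cancel_right]; exact ha
  -- `C_Q(V) ∩ C_Q'(X) = X`
  have B3 : ∀ d ∈ PP V, d ∈ PP X → d ∈ X := by
    intro d hd hdX
    have hw := h.mem_sup_of_comm_K hd fun k hk hkX => by
      refine comm_eq_one_iff.1 (hVP _ (comm_mem h.hyp hd hk) ?_)
      rw [show ⁅d, k⁆ = d * (k * d⁻¹ * k⁻¹) by simp [commutatorElement_def, mul_assoc]]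
      exact mul_mem hdX (PP_normal (hkN k hk hkX) (inv_mem hdX))
    obtain ⟨v, hv, a, ha, rfl⟩ := h.mem_sup hw
    have := hVP v hv (by simpa using mul_mem hdX (inv_mem (V_le_PP hX ha)))
    rw [this, one_mul]; exact ha
  have B4 : ∀ k ∈ PP V, (∀ a ∈ X, k * a = a * k) → ∀ y ∈ PP X, y ∈ Subgroup.normalizer (V : Set G) →
      ⁅k, y⁆ ∈ X := by
    intro k hk hkX y hy hyN
    refine B3 _ ?_ ?_
    · rw [show ⁅k, y⁆ = k * (y * k⁻¹ * y⁻¹) by simp [commutatorElement_def, mul_assoc]]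
      exact mul_mem hk (PP_normal hyN (inv_mem hk))
    · rw [commutatorElement_def]
      exact mul_mem (PP_normal (hkN k hk hkX) hy) (inv_mem hy)
  -- the commutators with `K` normalize `V`
  have B5 : ∀ k ∈ PP V, (∀ a ∈ X, k * a = a * k) → ∀ y ∈ PP X,
      ⁅k, y⁆ ∈ PP X ∧ ⁅k, y⁆ ∈ Subgroup.normalizer (V : Set G) := by
    intro k hk hkX y hy
    have he : ⁅k, y⁆ ∈ PP X := by
      rw [commutatorElement_def]
      exact mul_mem (PP_normal (hkN k hk hkX) hy) (inv_mem hy)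
    refine ⟨he, B2 _ he u hu hu1 ?_⟩
    set c := ⁅u, y⁆ with hc
    have hcP : c ∈ PP X := by rw [hc, comm_inv_eq]; exact inv_mem (hcommP y hy u hu)
    have huu := h.hyp.sq hu
    have hui := h.hyp.inv_eq hu
    have huc : u * c * u = c⁻¹ := by
      rw [hc, commutatorElement_def, hui]
      simp only [← mul_assoc, huu, one_mul, mul_inv_rev, hui, inv_inv]
    have hcc : ⁅c, u⁆ ∈ X := by
      have : ⁅c, u⁆ = c * c := by
        have e1 : u * c⁻¹ * u = c := by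
          have := congrArg (·⁻¹) huc
          simpa [mul_assoc, hui] using this
        rw [commutatorElement_def, hui, mul_assoc c u, mul_assoc c, e1]
      rw [this]; exact sq_mem hX hcP
    have hcN := B2 c hcP u hu hu1 hcc
    have huk : u * k = k * u := ((mem_PP.1 hk).2 u hu).symm
    have e2 : u * ⁅k, y⁆ * u⁻¹ = ⁅k, c⁆ * (c * ⁅k, y⁆ * c⁻¹) := by
      have hk' : u * k * u⁻¹ = k := by rw [huk, mul_inv_cancel_right]
      have hy' : u * y * u⁻¹ = c * y := by rw [hc, ← conj_eq_comm_mul]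
      calc u * ⁅k, y⁆ * u⁻¹ = ⁅u * k * u⁻¹, u * y * u⁻¹⁆ := by simp [commutatorElement_def, mul_assoc]
        _ = ⁅k, c * y⁆ := by rw [hk', hy']
        _ = _ := by simp [commutatorElement_def, mul_assoc]
    have e3 : ⁅u, ⁅k, y⁆⁆ ∈ X := by
      have e : ⁅u, ⁅k, y⁆⁆ = ⁅k, c⁆ * ⁅c, ⁅k, y⁆⁆ := by
        rw [commutatorElement_def u, e2, commutatorElement_def c, mul_assoc]
      rw [e]; exact mul_mem (B4 k hk hkX c hcP hcN) (comm_mem hX hcP he)
    rw [comm_inv_eq]; exact inv_mem e3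
  have hKmul : ∀ k ∈ PP V, (∀ a ∈ X, k * a = a * k) → ∀ l ∈ PP V, (∀ a ∈ X, l * a = a * l) →
      ∀ y ∈ PP X, ∃ t ∈ X, ⁅k * l, y⁆ = t * (⁅l, y⁆ * ⁅k, y⁆) := by
    intro k hk hkX l hl hlX y hy
    refine ⟨⁅k, ⁅l, y⁆⁆, B4 k hk hkX _ (B5 l hl hlX y hy).1 (B5 l hl hlX y hy).2, ?_⟩
    simp [commutatorElement_def, mul_assoc]
  have hcen : ∀ t ∈ X, ∀ z ∈ PP X, t * z = z * t := fun t ht z hz => ((mem_PP.1 hz).2 t ht).symm
  -- `K` is elementary abelian
  have hKab : ∀ k ∈ PP V, (∀ a ∈ X, k * a = a * k) → ∀ l ∈ PP V, (∀ a ∈ X, l * a = a * l) → k * l = l * k := by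
    intro k hk hkX l hl hlX
    refine comm_eq_one_iff.1 ?_
    have hcV := comm_mem h.hyp hk hl
    refine hex _ hcV (mem_QQ_of_trivial hX (huN _ hcV) (fun a ha => h.comm_V hcV ha) fun y hy => ?_)
    obtain ⟨t₁, ht₁, e₁⟩ := hKmul k hk hkX l hl hlX y hy
    obtain ⟨t₂, ht₂, e₂⟩ := hKmul l hl hlX k hk hkX y hy
    have hek := (B5 k hk hkX y hy).1
    have hel := (B5 l hl hlX y hy).1
    have hs : ⁅⁅l, y⁆, ⁅k, y⁆⁆ ∈ X := comm_mem hX hel hek
    have hlkX : ∀ a ∈ X, (l * k) * a = a * (l * k) := fun a ha =>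
      (Commute.mul_left (hlX a ha) (hkX a ha)).eq
    set f := ⁅l * k, y⁆ with hf
    obtain ⟨hfP, hfN⟩ := B5 (l * k) (mul_mem hl hk) hlkX y hy
    have e3 : ⁅k * l, y⁆ = f * ⁅⁅k, l⁆, y⁆ := by
      have e : ⁅⁅k, l⁆ * (l * k), y⁆ = (⁅k, l⁆ * f * ⁅k, l⁆⁻¹) * ⁅⁅k, l⁆, y⁆ := by
        rw [hf]; simp [commutatorElement_def, mul_assoc]
      rw [← B1 f hfP hfN _ hcV, mul_inv_cancel_right] at e
      rw [← e]; congr 1; simp [commutatorElement_def, mul_assoc]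
    have e4 : ⁅l, y⁆ * ⁅k, y⁆ = ⁅⁅l, y⁆, ⁅k, y⁆⁆ * (⁅k, y⁆ * ⁅l, y⁆) := by
      simp [commutatorElement_def, mul_assoc]
    set g := ⁅k, y⁆ * ⁅l, y⁆
    have hg : g ∈ PP X := mul_mem hek hel
    rw [e₁, e4, e₂, ← mul_assoc] at e3
    have : ⁅⁅k, l⁆, y⁆ = t₂⁻¹ * (t₁ * ⁅⁅l, y⁆, ⁅k, y⁆⁆) := by
      have h5 := congrArg (fun z => g⁻¹ * (t₂⁻¹ * z)) e3
      simp only [mul_assoc, inv_mul_cancel_left] at h5
      rw [← h5]
      have hc : t₂⁻¹ * (t₁ * ⁅⁅l, y⁆, ⁅k, y⁆⁆) ∈ X := mul_mem (inv_mem ht₂) (mul_mem ht₁ hs)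
      have := hcen _ hc g hg
      simp only [mul_assoc] at this
      rw [this, inv_mul_cancel_left]
    rw [this]
    exact mul_mem (inv_mem ht₂) (mul_mem ht₁ hs)
  have hKsq : ∀ k ∈ PP V, (∀ a ∈ X, k * a = a * k) → k * k = 1 := by
    intro k hk hkX
    have hcV := sq_mem h.hyp hk
    refine hex _ hcV (mem_QQ_of_trivial hX (huN _ hcV) (fun a ha => h.comm_V hcV ha) fun y hy => ?_)
    obtain ⟨t, ht, e⟩ := hKmul k hk hkX k hk hkX y hy
    rw [e]
    exact mul_mem ht (sq_mem hX (B5 k hk hkX y hy).1)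
  have hK : ∀ k ∈ PP V, (∀ a ∈ X, k * a = a * k) → k ∈ V ⊔ X := fun k hk hkX =>
    h.mem_sup_of_comm_K hk fun l hl hlX => hKab k hk hkX l hl hlX
  obtain ⟨Y, hY, hnd, hsY, -⟩ := h.exists_opp
  have hsplit : Split V X Y := by
    have hdec : ∀ p ∈ PP V, ∃ w ∈ V ⊔ X, ∃ b ∈ Y, p = w * b := by
      intro p hp
      obtain ⟨a₀, ha₀, ha₀1⟩ := h.nontriv
      obtain ⟨b, hb, eb⟩ := hsY a₀ ha₀ ha₀1 _ (comm_mem h.hyp hp (h.le_PP ha₀))
      have hk : p * b ∈ PP V := mul_mem hp (hY.le_PP hb)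
      have hk0 : ⁅p * b, a₀⁆ = 1 := by
        rw [comm_mul_left h.hyp hp (hY.le_PP hb) (h.le_PP ha₀), eb, h.hyp.sq (comm_mem h.hyp hp (h.le_PP ha₀))]
      exact ⟨_, hK _ hk fun a ha => comm_eq_one_iff.1 (h.fix_all hk ha₀ ha₀1 hk0 ha), b, hb,
        by rw [mul_assoc, hY.hypX.sq hb, mul_one]⟩
    have hcomm : ∀ a ∈ V ⊔ X, ∀ b ∈ V ⊔ Y, a * b = b * a → a ∈ V ∨ b ∈ V := by
      intro w hw w' hw' e
      obtain ⟨v, hv, a, ha, rfl⟩ := h.mem_sup hw
      obtain ⟨v', hv', b, hb, rfl⟩ := hY.mem_sup hw'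
      have haP := h.le_PP ha; have hbP := hY.le_PP hb
      have hvP := V_le_PP h.hyp hv; have hv'P := V_le_PP h.hyp hv'
      have e1 : ⁅v' * b, v * a⁆ = ⁅b, a⁆ := by
        rw [comm_mul_left h.hyp hv'P hbP (mul_mem hvP haP), comm_mul_right h.hyp hbP hvP haP,
          comm_eq_one_iff.2 ((mem_PP.1 hbP).2 v hv),
          comm_eq_one_iff.2 ((mem_PP.1 (mul_mem hvP haP)).2 v' hv').symm, one_mul, one_mul]
      rw [comm_eq_one_iff.2 e.symm] at e1
      rcases hnd a ha b hb e1.symm with rfl | rfl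
      · left; rw [mul_one]; exact hv
      · right; rw [mul_one]; exact hv'
    refine ⟨h, hY, fun p hp => ?_, fun p hp hpp => ?_, hcomm⟩
    · obtain ⟨w, hw, b, hb, rfl⟩ := hdec p hp
      exact ⟨w, hw, b, Subgroup.mem_sup_right hb, rfl⟩
    · obtain ⟨w, hw, b, hb, rfl⟩ := hdec p hp
      have hc : w * b = b * w := by
        calc w * b = (w * b) * ((w * b) * (w * b))⁻¹ := by rw [hpp, inv_one, mul_one]
          _ = b⁻¹ * w⁻¹ := by simp [mul_assoc]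
          _ = b * w := by rw [hY.hypX.inv_eq hb, inv_eq_of_mul_eq_one_right (h.sup_sq hw)]
      rcases hcomm w hw b (Subgroup.mem_sup_right hb) hc with hwV | hbV
      · right; exact mul_mem (Subgroup.mem_sup_left hwV) (Subgroup.mem_sup_right hb)
      · left; rw [hY.eq_one hbV hb, mul_one]; exact hw
  obtain ⟨x, hx⟩ := h.conj
  have hsX := hsplit.cj x
  rw [← hx] at hsX
  have key : ∀ Z Z', Pair X Z → (∀ p ∈ PP X, p * p = 1 → p ∈ X ⊔ Z ∨ p ∈ X ⊔ Z') →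
      (∀ a ∈ X ⊔ Z, ∀ b ∈ X ⊔ Z', a * b = b * a → a ∈ X ∨ b ∈ X) →
      ∀ y ∈ X ⊔ Z, y ∈ Subgroup.normalizer (V : Set G) := by
    intro Z Z' hZ hinv hnc y hy
    by_contra hyN
    have hXN : X ≤ Subgroup.normalizer (V : Set G) := h.le_PP.trans (PP_le_normalizer V)
    have hyP : y ∈ PP X := hZ.sup_le_PP hy
    set e := ⁅u, y⁆ with he
    have heP : e ∈ PP X := by rw [he, comm_inv_eq]; exact inv_mem (hcommP y hyP u hu)
    have heX : e ∉ X := fun hh => hyN (B2 y hyP u hu hu1 (by rw [comm_inv_eq]; exact inv_mem hh))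
    have huu := h.hyp.sq hu
    have hui := h.hyp.inv_eq hu
    have hey : e * y = u * y * u := by rw [he, ← conj_eq_comm_mul, hui]
    have hyy := hZ.sup_sq hy
    have hey2 : e * y * (e * y) = 1 := by
      rw [hey]
      calc u * y * u * (u * y * u) = u * (y * ((u * u) * y)) * u := by simp only [mul_assoc]
        _ = 1 := by rw [huu, one_mul, hyy, mul_one, huu]
    have hue : u * e * u = e⁻¹ := by
      rw [he, commutatorElement_def, hui]
      simp only [← mul_assoc, huu, one_mul, mul_inv_rev, hui, inv_inv]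
    have heu : ⁅e, u⁆ ∈ X := by
      have : ⁅e, u⁆ = e * e := by
        have e1 : u * e⁻¹ * u = e := by
          have := congrArg (·⁻¹) hue
          simpa [mul_assoc, hui] using this
        rw [commutatorElement_def, hui, mul_assoc e u, mul_assoc e, e1]
      rw [this]; exact sq_mem hX heP
    have heN := B2 e heP u hu hu1 heu
    have hee : e * e = 1 := by
      have h6 := B1 e heP heN u hu
      rw [← h6, mul_assoc, huu, mul_one] at hue
      exact mul_eq_one_iff_eq_inv.2 hue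
    -- `e` is not in `X ⊔ Z`
    have heW : e ∉ X ⊔ Z := by
      intro hh
      rcases hZ.mem_component hh with hh' | ⟨p, hp, hpe⟩
      · exact heX hh'
      have hU := hZ.of_cj hp
      set U := TIRad.cj p Z
      have hUdisj : U ⊓ V = ⊥ := (Subgroup.eq_bot_iff_forall _).2 fun v hv =>
        hVP v (Subgroup.mem_inf.1 hv).2 (hU.le_PP (Subgroup.mem_inf.1 hv).1)
      have he1 : e ≠ 1 := fun e0 => heX (e0 ▸ one_mem X)
      have hUhyp := hU.hypX
      have hVN : V ≤ Subgroup.normalizer (U : Set G) := by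
        intro v hv
        refine Subgroup.mem_normalizer_iff_map_conj_eq.2 ((hUhyp.ti v).resolve_right fun e' => he1 ?_)
        refine Subgroup.mem_bot.1 (e' ▸ Subgroup.mem_inf.2 ⟨⟨e, hpe, ?_⟩, hpe⟩)
        show v * e * v⁻¹ = e
        rw [← B1 e heP heN v hv, mul_inv_cancel_right]
      have hb := TI.comm_eq_bot_of_ti (p := 2) hUhyp.isPGroup h.hyp.isPGroup (fun a _ => h.hyp.ti a)
        (by rw [hU.card, h.card]) hUdisj hVN
      have hUN : U ≤ Subgroup.normalizer (V : Set G) := by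
        intro a ha
        refine mem_normalizer_of_cj_le ?_
        rintro _ ⟨v, hv, rfl⟩
        show a * v * a⁻¹ ∈ V
        have : ⁅a, v⁆ ∈ (⊥ : Subgroup G) := hb ▸ Subgroup.commutator_mem_commutator ha hv
        rw [comm_eq_one_iff.1 (Subgroup.mem_bot.1 this), mul_inv_cancel_right]; exact hv
      have hle : X ⊔ Z ≤ X ⊔ U := by
        refine sup_le le_sup_left fun z hz => ?_
        have := hU.cj_le_sup (inv_mem hp) (show p⁻¹ * (p * z * p⁻¹) * p⁻¹⁻¹ ∈ TIRad.cj p⁻¹ U from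
          ⟨p * z * p⁻¹, ⟨z, hz, rfl⟩, rfl⟩)
        simpa [mul_assoc] using this
      exact hyN ((sup_le hXN hUN) (hle hy))
    have heyP : e * y ∈ PP X := mul_mem heP hyP
    have hcomm : y * (e * y) = (e * y) * y := by
      have c : e * y = y * e := by
        calc e * y = (e * y) * ((e * y) * (e * y))⁻¹ := by rw [hey2, inv_one, mul_one]
          _ = y⁻¹ * e⁻¹ := by simp [mul_assoc]
          _ = y * e := by rw [inv_eq_of_mul_eq_one_right hyy, inv_eq_of_mul_eq_one_right hee]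
      calc y * (e * y) = (y * e) * y := (mul_assoc _ _ _).symm
        _ = (e * y) * y := by rw [c]
    rcases hinv _ heyP hey2 with h1 | h2
    · exact heW (by simpa [mul_assoc] using mul_mem h1 (inv_mem hy))
    · rcases hnc y hy _ h2 hcomm with h3 | h3
      · exact hyN (hXN h3)
      · exact heW (by simpa [mul_assoc] using mul_mem (Subgroup.mem_sup_left h3) (inv_mem hy))
  have hall : ∀ y ∈ PP X, y ∈ Subgroup.normalizer (V : Set G) := by
    intro y hy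
    obtain ⟨w₁, hw₁, w₂, hw₂, rfl⟩ := hsX.mem y hy
    refine mul_mem (key _ _ hsX.pair₁ hsX.inv hsX.noncomm w₁ hw₁)
      (key _ _ hsX.pair₂ (fun p hp hpp => (hsX.inv p hp hpp).symm)
        (fun a ha b hb e => (hsX.noncomm b hb a ha e.symm).symm) w₂ hw₂)
  refine hu1 (hex u hu (mem_QQ_of_trivial hX (huN u hu) (fun a ha => h.comm_V hu ha) fun y hy => ?_))
  rw [comm_symm (B1 y hy (hall y hy) u hu)]
  exact one_mem X

theorem symm : Pair X V := by
  refine ⟨h.hypX, ?_, fun e => h.ne e.symm, h.V_le_QQ⟩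
  obtain ⟨x, rfl⟩ := h.conj
  exact ⟨x⁻¹, by rw [cj_cj, inv_mul_cancel, cj_one]⟩

end Pair

end Cfsg.Agent.TIRad
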